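import Cfsg.Agent.SolvStruct.ExtraspecialTwo
import Cfsg.Agent.Lib.AutPOmega.Groups

/-!
# The extraspecial group of order 32 of minus type is a central product
-/

set_option autoImplicit false
set_option linter.all false

namespace Cfsg.Agent.GroupStructure3.RankFourA5

open Subgroup SolvStruct.ExtraspecialTwo

theorem good_congr {E E' : Type*} [Group E] [Group E'] {z : E} (h : Good E z) (e : E ≃* E') :
    Good E' (e z) where
  ne_one he := h.ne_one (e.injective (by rw [he, map_one]))
  sq := by rw [← map_mul, h.sq, map_one]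
  center x := by
    obtain ⟨x, rfl⟩ := e.surjective x
    rw [← map_one e, e.injective.eq_iff, e.injective.eq_iff, ← h.center x, mem_center_iff, mem_center_iff]
    constructor
    · intro hx g; exact e.injective (by rw [map_mul, map_mul]; exact hx (e g))
    · intro hx g
      obtain ⟨g, rfl⟩ := e.surjective g
      rw [← map_mul, ← map_mul, hx g]
  comm x y := by
    obtain ⟨x, rfl⟩ := e.surjective x
    obtain ⟨y, rfl⟩ := e.surjective y
    rcases h.comm x y with he | he
    · left; rw [← map_mul, ← map_mul, he]
    · right; rw [← map_mul, ← map_mul, ← map_mul, he]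
  squares x := by
    obtain ⟨x, rfl⟩ := e.surjective x
    rcases h.squares x with he | he
    · left; rw [← map_mul, he, map_one]
    · right; rw [← map_mul, he]

theorem invs_congr {E E' : Type*} [Group E] [Group E'] (e : E ≃* E') : invs E' = invs E :=
  (Nat.card_congr (e.toEquiv.subtypeEquiv fun x => by
    show x * x = 1 ↔ e x * e x = 1
    rw [← map_mul, EmbeddingLike.map_eq_one_iff])).symm

/-- A minus type group of order 32 is a central product of a quaternion and a dihedral group. -/
theorem central_product {E : Type*} [Group E] [Finite E] {z : E} (h : Good E z) (h32 : Nat.card E = 32)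
    (h12 : invs E = 12) :
    ∃ A B : Subgroup E, Nonempty (↥A ≃* QuaternionGroup 2) ∧ Nonempty (↥B ≃* DihedralGroup 4) ∧
      (∀ a ∈ A, ∀ b ∈ B, a * b = b * a) ∧ A ⊔ B = ⊤ ∧ A ⊓ B = Subgroup.center E := by
  classical
  have hi : ∃ u : E, u * u = 1 ∧ u ∉ center E := by
    by_contra hcon
    push Not at hcon
    have := (no_split_case h hcon).1
    omega
  obtain ⟨u, w, s⟩ := exists_split h hi
  obtain ⟨hc, hj⟩ := card_eq h s
  have hg := good_rest h s
  set A := rest u w with hA
  have hA8 : Nat.card A = 8 := by omega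
  have hA2 : invs A = 2 := by omega
  set zA : A := ⟨z, h.mem_rest u w⟩ with hzA
  have hn : ∀ c : A, c * c = 1 → c ∈ center A := by
    intro c hc2
    by_contra hcc
    have h3 : ({1, zA, c} : Set A) ⊆ {x | x * x = 1} := by
      simp only [Set.insert_subset_iff, Set.singleton_subset_iff, Set.mem_setOf_eq]
      exact ⟨one_mul 1, hg.sq, hc2⟩
    have h1c : (1 : A) ≠ c := fun e => hcc (e ▸ one_mem _)
    have hzc : zA ≠ c := fun e => hcc (e ▸ (hg.center zA).2 (Or.inr rfl))
    have := Set.ncard_le_ncard h3 (Set.toFinite _)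
    rw [Set.ncard_eq_three.2 ⟨1, zA, c, hg.ne_one.symm, h1c, hzc, rfl⟩, ← Nat.card_coe_set_eq] at this
    change 3 ≤ invs A at this
    omega
  obtain ⟨-, h2 | ⟨-, hQ⟩⟩ := no_split_case hg hn
  · exact absurd (hA8.symm.trans h2) (by norm_num)
  set B : Subgroup E := centralizer (A : Set E) with hB
  have hu : u ∈ B := mem_centralizer_iff.2 fun a ha => (rest_comm ha).1.eq
  have hw : w ∈ B := mem_centralizer_iff.2 fun a ha => (rest_comm ha).2.eq
  have hpart : ∀ a b : Bool, (if a then u else 1) * (if b then w else 1) ∈ B := fun a b =>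
    mul_mem (by split <;> [exact hu; exact one_mem B]) (by split <;> [exact hw; exact one_mem B])
  have hcoord : ∀ t : (Bool × Bool) × ↥A, coord u w t ∈ B ↔ t.2 ∈ center A := by
    intro t
    rw [coord, mul_mem_cancel_left (hpart _ _), mem_center_iff, mem_centralizer_iff]
    exact ⟨fun hh g => Subtype.ext (hh g g.2), fun hh g hg' => congrArg Subtype.val (hh ⟨g, hg'⟩)⟩
  have hB8 : Nat.card B = 8 := by
    have e1 : {t : (Bool × Bool) × ↥A // t.2 ∈ center A} ≃ B :=
      (Equiv.ofBijective _ (coord_bijective h s)).subtypeEquiv fun t => (hcoord t).symm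
    have e2 : {t : (Bool × Bool) × ↥A // t.2 ∈ center A} ≃ (Bool × Bool) × center A :=
      { toFun := fun t => (t.1.1, ⟨t.1.2, t.2⟩)
        invFun := fun t => ⟨(t.1, t.2.1), t.2.2⟩
        left_inv := fun t => rfl
        right_inv := fun t => rfl }
    have hcA : Nat.card (center A) = 2 := by
      rw [← SetLike.coe_sort_coe, Nat.card_coe_set_eq,
        show (center A : Set A) = {1, zA} by ext c; simpa using hg.center c,
        Set.ncard_pair hg.ne_one.symm]
    rw [← Nat.card_congr e1, Nat.card_congr e2, Nat.card_prod, hcA]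
    simp [Nat.card_prod]
  refine ⟨A, B, hQ, ?_, fun a ha b hb => mem_centralizer_iff.1 hb a ha, ?_, ?_⟩
  · refine AutPOmega.Groups.dihedral_four hB8 (a := ⟨u, hu⟩) (b := ⟨w, hw⟩) (Subtype.ext s.u2)
      (Subtype.ext s.w2) fun hh => h.ne_one ?_
    have e1 : u * w = w * u := congrArg Subtype.val hh
    have e2 := s.wu
    rw [← e1] at e2
    simpa using e2
  · rw [eq_top_iff]
    intro x _
    obtain ⟨t, rfl⟩ := (coord_bijective h s).2 x
    exact mul_mem (mem_sup_right (hpart _ _)) (mem_sup_left t.2.2)
  · ext x
    constructor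
    · rintro ⟨hxA, hxB⟩
      rcases (hg.center ⟨x, hxA⟩).1 (mem_center_iff.2 fun g => Subtype.ext
        (mem_centralizer_iff.1 hxB g g.2)) with e | e
      · rw [show x = 1 from congrArg Subtype.val e]; exact one_mem _
      · rw [show x = z from congrArg Subtype.val e]; exact h.mem_center
    · intro hx
      exact ⟨⟨center_le_centralizer _ hx, center_le_centralizer _ hx⟩, center_le_centralizer _ hx⟩

end Cfsg.Agent.GroupStructure3.RankFourA5
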