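import Mathlib

/-!
# Fixed points of conjugation by an element of prime order
-/

set_option autoImplicit false
set_option linter.all false

namespace Cfsg.Agent.GroupStructure3.RankFourA5

open Subgroup

variable {X : Type*} [Group X] [Finite X]

/-- Conjugation by an element of order dividing a prime `q` permutes an invariant set with the number of
fixed points congruent to its size. -/
theorem ncard_modEq {q : ℕ} [Fact q.Prime] {g : X} (hg : g ^ q = 1) (S : Set X)
    (hS : ∀ x ∈ S, g * x * g⁻¹ ∈ S) :
    S.ncard ≡ (S ∩ {x | g * x = x * g}).ncard [MOD q] := by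
  classical
  haveI := Fintype.ofFinite X
  let f : S → S := fun x => ⟨g * x * g⁻¹, hS x x.2⟩
  have hf : Function.Bijective f := Finite.injective_iff_bijective.1 fun a b hab => by
    have : g * (a : X) * g⁻¹ = g * b * g⁻¹ := congrArg Subtype.val hab
    exact Subtype.ext (mul_left_cancel (mul_right_cancel this))
  let σ : Equiv.Perm S := Equiv.ofBijective f hf
  have hpow : ∀ (n : ℕ) (x : S), ((σ ^ n) x : X) = g ^ n * x * (g ^ n)⁻¹ := by
    intro n
    induction n with
    | zero => intro x; simp
    | succ n ih =>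
      intro x
      rw [pow_succ', Equiv.Perm.mul_apply]
      show g * ((σ ^ n) x : X) * g⁻¹ = _
      rw [ih, pow_succ']
      group
  have hσ : σ ^ q ^ 1 = 1 := by
    rw [pow_one]; ext x; rw [hpow, hg]; simp
  have h := Equiv.Perm.card_compl_support_modEq hσ
  rw [← Nat.card_eq_fintype_card, Nat.card_coe_set_eq] at h
  refine h.symm.trans ?_
  suffices e : σ.supportᶜ.card = (S ∩ {x | g * x = x * g}).ncard by rw [e]
  rw [← Set.ncard_coe_finset]
  refine Set.ncard_congr (fun x _ => (x : X)) ?_ (fun a b _ _ hab => Subtype.ext hab) ?_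
  · intro x hx
    simp only [Finset.coe_compl, Set.mem_compl_iff, Finset.mem_coe, Equiv.Perm.mem_support, not_not] at hx
    refine ⟨x.2, ?_⟩
    have h' : g * (x : X) * g⁻¹ = x := congrArg Subtype.val hx
    show g * (x : X) = x * g
    conv_rhs => rw [← h']
    group
  · rintro x ⟨hxS, hx⟩
    refine ⟨⟨x, hxS⟩, ?_, rfl⟩
    simp only [Finset.coe_compl, Set.mem_compl_iff, Finset.mem_coe, Equiv.Perm.mem_support, not_not]
    refine Subtype.ext ?_
    show g * x * g⁻¹ = x
    rw [show g * x = x * g from hx, mul_inv_cancel_right]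

/-- The version for an invariant subgroup. -/
theorem card_modEq {q : ℕ} [Fact q.Prime] {g : X} (hg : g ^ q = 1) (H : Subgroup X)
    (hH : ∀ x ∈ H, g * x * g⁻¹ ∈ H) :
    Nat.card H ≡ Nat.card ↥(H ⊓ centralizer {g}) [MOD q] := by
  have h := ncard_modEq (q := q) hg (H : Set X) hH
  rw [← Nat.card_coe_set_eq, ← Nat.card_coe_set_eq] at h
  refine h.trans ((Nat.card_congr (Equiv.setCongr ?_)) ▸ Nat.ModEq.refl _)
  ext x
  simp [Subgroup.mem_centralizer_singleton_iff, eq_comm]

/-- A group of order at most 16 whose order is a power of two and congruent to a subgroup's modulo 5. -/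
theorem two_power_five {a b : ℕ} (ha : a ∣ 16) (hb : b ∣ a) (hne : b ≠ a) (h : a ≡ b [MOD 5]) :
    a = 16 ∧ b = 1 := by
  have ha' : a ∈ Nat.divisors 16 := Nat.mem_divisors.2 ⟨ha, by norm_num⟩
  have hb' : b ∈ Nat.divisors 16 := Nat.mem_divisors.2 ⟨hb.trans ha, by norm_num⟩
  rw [show Nat.divisors 16 = {1, 2, 4, 8, 16} by decide] at ha' hb'
  unfold Nat.ModEq at h
  have hle := Nat.le_of_dvd (Nat.pos_of_dvd_of_pos ha (by norm_num)) hb
  simp only [Finset.mem_insert, Finset.mem_singleton] at ha' hb'
  omega

end Cfsg.Agent.GroupStructure3.RankFourA5
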