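import Cfsg.Agent.GroupStructure3.RankFourA5.Setting

/-!
# The element of order five fixes the lower layer
-/

set_option autoImplicit false
set_option linter.all false

namespace Cfsg.Agent.GroupStructure3.RankFourA5

open Subgroup
open scoped commutatorElement

variable {X : Type*} [Group X] [Finite X] {P Φ : Subgroup X} {y z e : X}

theorem y_trivial (hD : Data P y z e) (hT : Two P Φ y z) : ∀ f ∈ Φ, y * f = f * y := by
  by_contra hcon
  haveI := hT.normal
  haveI := hD.normal
  haveI : Fact (Nat.Prime 5) := ⟨by norm_num⟩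
  have hne : Φ ⊓ centralizer {y} ≠ Φ := fun h => hcon fun f hf =>
    (mem_centralizer_singleton_iff.1 (inf_eq_left.1 h hf)).symm
  have hmod := card_modEq (q := 5) hD.y5 Φ (fun f hf => hT.normal.conj_mem f hf y)
  obtain ⟨h16, h1⟩ := two_power_five (card_dvd hD hT) (card_dvd_of_le inf_le_left)
    (fun h => hne (eq_of_le_of_card_ge inf_le_left h.ge)) hmod
  have hfree : ∀ f ∈ Φ, y * f = f * y → f = 1 := fun f hf hy =>
    mem_bot.1 ((card_eq_one.1 h1) ▸ (⟨hf, mem_centralizer_singleton_iff.2 hy.symm⟩ : f ∈ Φ ⊓ centralizer {y}))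
  have hyP : ∀ p ∈ P, y * p = p * y → p = 1 := fun p hp hy => by
    refine hfree p (hT.yV p hp ?_) hy
    rw [commutatorElement_eq_one_iff_mul_comm.2 hy]
    exact one_mem _
  have he : e * e = 1 := by
    refine hyP _ hD.e2 ?_
    have h2 : e * e * y * (e * e)⁻¹ = y := by
      calc e * e * y * (e * e)⁻¹ = e * (e * y * e⁻¹) * e⁻¹ := by group
        _ = (e * y * e⁻¹)⁻¹ := by rw [conj_inv, hD.inv]
        _ = y := by rw [hD.inv, inv_inv]
    conv_lhs => rw [← h2]
    group
  have hei : e⁻¹ = e := inv_eq_of_mul_eq_one_right he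
  -- fixed points of the involution on the lower layer
  set C := Φ ⊓ centralizer {e} with hC
  have hC4 : Nat.card C ≤ 4 := by
    by_contra hlt
    have hd : Nat.card C ∣ 16 := h16 ▸ card_dvd_of_le inf_le_left
    set C' := C.map (MulAut.conj y).toMonoidHom with hC'
    have hC'Φ : C' ≤ Φ := by
      rintro _ ⟨c, hc, rfl⟩
      exact hT.normal.conj_mem c hc.1 y
    have hcard' : Nat.card C' = Nat.card C := card_map_of_injective (MulAut.conj y).injective
    have hrel : ∀ K : Subgroup X, K ≤ Φ → Nat.card K = Nat.card C → K.relIndex Φ ≤ 2 := fun K hK hKc => by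
      have h := (K.subgroupOf Φ).card_mul_index
      rw [Nat.card_congr (subgroupOfEquivOfLe hK).toEquiv, hKc, h16] at h
      show (K.subgroupOf Φ).index ≤ 2
      by_contra hgt
      have := Nat.mul_le_mul (show 5 ≤ Nat.card C by omega) (show 3 ≤ (K.subgroupOf Φ).index by omega)
      have hd' : Nat.card C ∈ Nat.divisors 16 := Nat.mem_divisors.2 ⟨hd, by norm_num⟩
      rw [show Nat.divisors 16 = {1, 2, 4, 8, 16} by decide] at hd'
      simp only [Finset.mem_insert, Finset.mem_singleton] at hd'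
      rcases hd' with e' | e' | e' | e' | e' <;> rw [e'] at h <;> omega
    have hbot : C ⊓ C' = ⊥ := by
      rw [eq_bot_iff]
      rintro f ⟨⟨hfΦ, hfe⟩, c, ⟨-, hce⟩, hcf⟩
      change y * c * y⁻¹ = f at hcf
      rw [mem_bot]
      refine hfree f hfΦ ?_
      have h1 : Commute f e := mem_centralizer_singleton_iff.1 hfe
      have h2 : Commute c e := mem_centralizer_singleton_iff.1 hce
      have h3 : Commute f (y * e * y⁻¹) := by rw [← hcf]; exact h2.conj y
      have h4 : y ^ 2 = y * e * y⁻¹ * e := by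
        calc y ^ 2 = y * (y⁻¹)⁻¹ := by rw [pow_two, inv_inv]
          _ = y * (e * y * e⁻¹)⁻¹ := by rw [hD.inv]
          _ = y * e * y⁻¹ * e := by
            rw [mul_inv_rev, mul_inv_rev, inv_inv, hei]; group
      have h5 : Commute f (y ^ 2) := h4 ▸ h3.mul_right h1
      have h6 : y = (y ^ 2) ^ 3 := by rw [← pow_mul, show 2 * 3 = 5 + 1 from rfl, pow_succ, hD.y5, one_mul]
      rw [h6]
      exact (h5.pow_right 3).eq.symm
    have hle := relIndex_inf_le (H := C) (K := C') (L := Φ)
    rw [hbot, relIndex_bot_left, h16] at hle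
    have := Nat.mul_le_mul (hrel C inf_le_left rfl) (hrel C' hC'Φ hcard')
    omega
  -- the fixed points on the upper layer
  let q := QuotientGroup.mk' Φ
  set V := P.map q with hV
  have hVcard : Nat.card V = 16 := by
    have h := Subgroup.relIndex_ker P q
    rw [QuotientGroup.ker_mk'] at h
    have h2 := (Φ.subgroupOf P).card_mul_index
    rw [Nat.card_congr (subgroupOfEquivOfLe hT.le).toEquiv, hT.card] at h2
    rw [hV, ← h, Subgroup.relIndex]
    exact Nat.eq_of_mul_eq_mul_left (Nat.card_pos (α := Φ)) (h2.trans (mul_comm _ _))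
  have hVc : ∀ a ∈ V, ∀ b ∈ V, a * b = b * a := by
    rintro _ ⟨a, ha, rfl⟩ _ ⟨b, hb, rfl⟩
    rw [← commutatorElement_eq_one_iff_mul_comm, ← map_commutatorElement]
    exact (QuotientGroup.eq_one_iff _).2 (hT.comm a ha b hb)
  have hVsq : ∀ a ∈ V, a * a = 1 := by
    rintro _ ⟨a, ha, rfl⟩
    rw [← map_mul]; exact (QuotientGroup.eq_one_iff _).2 (hT.sq a ha)
  have hVn : ∀ a ∈ V, q e * a * (q e)⁻¹ ∈ V := by
    rintro _ ⟨a, ha, rfl⟩
    exact ⟨_, hD.normal.conj_mem a ha e, by simp⟩
  have hee : q e * q e = 1 := by rw [← map_mul, he, map_one]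
  have hei' : (q e)⁻¹ = q e := inv_eq_of_mul_eq_one_right hee
  let φ : V →* V :=
    { toFun := fun v => ⟨(v : X ⧸ Φ) * (q e * v * (q e)⁻¹), mul_mem v.2 (hVn v v.2)⟩
      map_one' := Subtype.ext (by simp)
      map_mul' := fun a b => Subtype.ext (by
        show (a : X ⧸ Φ) * b * (q e * (a * b) * (q e)⁻¹) =
          (a : X ⧸ Φ) * (q e * a * (q e)⁻¹) * ((b : X ⧸ Φ) * (q e * b * (q e)⁻¹))
        rw [conj_mul.symm]
        calc (a : X ⧸ Φ) * b * (q e * a * (q e)⁻¹ * (q e * b * (q e)⁻¹))
            = (a : X ⧸ Φ) * ((b : X ⧸ Φ) * (q e * a * (q e)⁻¹)) * (q e * b * (q e)⁻¹) := by group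
          _ = (a : X ⧸ Φ) * ((q e * a * (q e)⁻¹) * b) * (q e * b * (q e)⁻¹) := by
            rw [hVc b b.2 _ (hVn a a.2)]
          _ = _ := by group) }
  have hker : ∀ v : V, v ∈ φ.ker ↔ q e * (v : X ⧸ Φ) = v * q e := by
    intro v
    rw [MonoidHom.mem_ker, Subtype.ext_iff]
    show (v : X ⧸ Φ) * (q e * v * (q e)⁻¹) = 1 ↔ _
    rw [mul_eq_one_iff_eq_inv', inv_eq_of_mul_eq_one_right (hVsq v v.2), mul_inv_eq_iff_eq_mul]
  have hrange : φ.range ≤ φ.ker := by
    rintro _ ⟨v, rfl⟩
    rw [hker]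
    show q e * ((v : X ⧸ Φ) * (q e * v * (q e)⁻¹)) = (v : X ⧸ Φ) * (q e * v * (q e)⁻¹) * q e
    calc q e * ((v : X ⧸ Φ) * (q e * v * (q e)⁻¹))
        = (q e * v * (q e)⁻¹) * ((q e * q e) * v * (q e)⁻¹) := by group
      _ = ((q e * v * (q e)⁻¹) * v) * q e := by rw [hee, hei']; group
      _ = _ := by rw [hVc _ (hVn v v.2) v v.2]
  have hker4 : 4 ≤ Nat.card φ.ker := by
    have h := φ.ker.card_mul_index
    rw [Subgroup.index_ker, hVcard] at h
    have := Subgroup.card_le_of_le hrange
    nlinarith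
  -- the elementary section
  set A : Subgroup X := P ⊓ (centralizer {q e}).comap q with hA
  have hΦA : Φ ≤ A := fun f hf => ⟨hT.le hf, by
    show q f ∈ centralizer {q e}
    rw [show q f = 1 from (QuotientGroup.eq_one_iff f).2 hf]; exact one_mem _⟩
  have hA64 : 64 ≤ Nat.card A := by
    have h := Subgroup.relIndex_ker A q
    rw [QuotientGroup.ker_mk'] at h
    have h2 := (Φ.subgroupOf A).card_mul_index
    rw [Nat.card_congr (subgroupOfEquivOfLe hΦA).toEquiv, h16] at h2
    have h3 : Nat.card φ.ker ≤ Nat.card (A.map q) := by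
      refine Nat.card_le_card_of_injective (fun v => ⟨((v : V) : X ⧸ Φ), ?_⟩) (fun a b hab =>
        Subtype.ext (Subtype.ext (congrArg Subtype.val hab :)))
      obtain ⟨p, hp, hpv⟩ := (v : V).2
      refine ⟨p, ⟨hp, ?_⟩, hpv⟩
      show q p ∈ centralizer {q e}
      rw [hpv, mem_centralizer_singleton_iff]
      exact ((hker v).1 v.2).symm
    rw [← h, Subgroup.relIndex] at h3
    rw [← h2]
    omega
  have hAn : ∀ a ∈ A, e * a * e⁻¹ ∈ A := by
    rintro a ⟨haP, hae⟩
    refine ⟨hD.normal.conj_mem a haP e, ?_⟩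
    show q (e * a * e⁻¹) ∈ centralizer {q e}
    have h1 : q a * q e = q e * q a := mem_centralizer_singleton_iff.1 hae
    rw [map_mul, map_mul, map_inv, ← h1, mul_inv_cancel_right]
    exact hae
  set H := adjoin A e he hAn with hH
  have hH128 : 128 ≤ Nat.card H := by
    rw [hH, card_adjoin he hAn (fun h => hD.eP h.1)]; omega
  have hce : ∀ a ∈ A, ∃ c ∈ C, e * a * e⁻¹ = c * a := by
    rintro a ⟨haP, hae⟩
    set c := ⁅e, a⁆ with hc
    have hcΦ : c ∈ Φ := (QuotientGroup.eq_one_iff _).1 (by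
      show q ⁅e, a⁆ = 1
      rw [map_commutatorElement, commutatorElement_eq_one_iff_mul_comm]
      exact (mem_centralizer_singleton_iff.1 hae).symm)
    refine ⟨c, ⟨hcΦ, mem_centralizer_singleton_iff.2 ?_⟩, by rw [hc, commutatorElement_def, inv_mul_cancel_right]⟩
    have h1 : e * c * e⁻¹ = c⁻¹ := by
      rw [hc, commutatorElement_def]
      calc e * (e * a * e⁻¹ * a⁻¹) * e⁻¹ = (e * e) * a * e⁻¹ * a⁻¹ * e⁻¹ := by group
        _ = a * e * a⁻¹ * e⁻¹ := by rw [he, one_mul]; conv_lhs => arg 1; arg 1; arg 2; rw [hei]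
        _ = (e * a * e⁻¹ * a⁻¹)⁻¹ := by group
    rw [inv_eq_of_mul_eq_one_right (hT.exp c hcΦ)] at h1
    exact (mul_inv_eq_iff_eq_mul.1 h1).symm
  have hAsq : ∀ a ∈ A, a * a ∈ C := by
    intro a ha
    refine ⟨hT.sq a ha.1, mem_centralizer_singleton_iff.2 ?_⟩
    obtain ⟨c, hc, hca⟩ := hce a ha
    have h1 : e * (a * a) * e⁻¹ = a * a := by
      rw [← conj_mul, hca]
      calc c * a * (c * a) = c * (a * c) * a := by group
        _ = (c * c) * (a * a) := by rw [hT.central a ha.1 c hc.1]; group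
        _ = a * a := by rw [hT.exp c hc.1, one_mul]
    exact (mul_inv_eq_iff_eq_mul.1 h1).symm
  have hsq : ∀ d ∈ H, d * d ∈ C := by
    rintro d (hd | hd)
    · exact hAsq d hd
    · obtain ⟨c, hc, hca⟩ := hce (d * e) hd
      have hde : d = (d * e) * e := by rw [mul_assoc, he, mul_one]
      have : d * d = ((d * e) * (d * e)) * c := by
        calc d * d = (d * e) * (e * (d * e) * e⁻¹) * (e * e) := by
              calc d * d = (d * (e * e)) * (d * (e * e)) := by rw [he, mul_one]
                _ = _ := by group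
          _ = (d * e) * (c * (d * e)) := by rw [he, mul_one, hca]
          _ = ((d * e) * (d * e)) * c := by rw [← hT.central (d * e) hd.1 c hc.1]; group
      rw [this]
      exact mul_mem (hAsq _ hd) hc
  have hCH : C ≤ H := fun c hc => Or.inl (hΦA hc.1)
  have hnorm : H ≤ normalizer (C : Set X) := by
    intro d hd
    have hfix : ∀ c ∈ C, d * c = c * d := by
      intro c hc
      rcases hd with hd | hd
      · exact hT.central d hd.1 c hc.1
      · have h1 : d * e * c = c * (d * e) := hT.central _ hd.1 c hc.1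
        have h2 : c * e = e * c := mem_centralizer_singleton_iff.1 hc.2
        calc d * c = d * (e * c) * e := by rw [← h2, mul_assoc d, mul_assoc c, he, mul_one]
          _ = c * d * (e * e) := by rw [← mul_assoc d, h1]; group
          _ = c * d := by rw [he, mul_one]
    rw [mem_normalizer_iff]
    intro c
    constructor
    · intro hc
      rw [hfix c hc, mul_inv_cancel_right]; exact hc
    · intro hc
      have := hfix _ hc
      have e1 : d * c * d⁻¹ = c := by
        calc d * c * d⁻¹ = d⁻¹ * (d * (d * c * d⁻¹)) := by group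
          _ = c := by rw [this]; group
      rwa [e1] at hc
  have hle := GenA.SectionalRankFour.card_le_of_squares hD.rank C H hCH hnorm hsq
  omega

end Cfsg.Agent.GroupStructure3.RankFourA5
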