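import Cfsg.Agent.GroupStructure3.RankFourA5.Tower
import Cfsg.Agent.OddLocal.PLengthZGroup

/-!
# Elements above an alternating group of degree five
-/

set_option autoImplicit false
set_option linter.all false

namespace Cfsg.Agent.GroupStructure3.RankFourA5

open Subgroup
open scoped commutatorElement

variable {X : Type*} [Group X] [Finite X]

theorem centralizer_le_pCore (hc : Cfsg.IsPConstrained 2 X) (hO : Cfsg.pPrimeCore 2 X = ⊥) :
    centralizer (Cfsg.pCore 2 X : Set X) ≤ Cfsg.pCore 2 X := by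
  haveI : Fact (Nat.Prime 2) := ⟨Nat.prime_two⟩
  have hPQ : Cfsg.pPrimePCore 2 X = Cfsg.pCore 2 X := OddLocal.PLengthZGroup.pPrimePCore_eq_pCore hO
  obtain ⟨S⟩ := (inferInstance : Nonempty (Sylow 2 ↥(Cfsg.pPrimePCore 2 X)))
  have hp : IsPGroup 2 ↥(Cfsg.pPrimePCore 2 X) := hPQ ▸ Cores.pCore_isPGroup 2
  have hS : (S : Subgroup ↥(Cfsg.pPrimePCore 2 X)) = ⊤ :=
    (S.is_maximal' (hp.to_subgroup (⊤ : Subgroup _)) le_top).symm
  have h := hc S
  rw [hS, ← MonoidHom.range_eq_map, Subgroup.range_subtype, hPQ] at h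
  exact h

variable {P : Subgroup X} [hPn : P.Normal] (hP : IsPGroup 2 P)
include hP

/-- An element outside `P` of odd prime order moves a class of the Frattini quotient. -/
theorem exists_moved (hcent : centralizer (P : Set X) ≤ P) {q : ℕ} (hq : q.Prime) (hq2 : q ≠ 2) {g : X}
    (hg : g ^ q = 1) (hgP : g ∉ P) : ∃ p ∈ P, ⁅g, p⁆ ∉ (frattini P).map P.subtype := by
  by_contra hcon
  push Not at hcon
  haveI : Fact (Nat.Prime 2) := ⟨Nat.prime_two⟩
  haveI : Fact q.Prime := ⟨hq⟩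
  haveI : (frattini ↥P).Characteristic := frattini_characteristic
  haveI hF : ((frattini P).map P.subtype).Normal := ConjAct.normal_of_characteristic_of_normal
  have ho : orderOf g = q := orderOf_eq_prime hg fun h => hgP (h ▸ one_mem P)
  refine hgP (hcent (Coprime.le_centralizer_of_frattini (A := zpowers g) (K := P) ?_ ?_ ?_ (mem_zpowers g)))
  · rw [normalizer_eq_top]; exact le_top
  · rw [Nat.card_zpowers, ho]
    obtain ⟨j, hj⟩ := (hP.to_subgroup (frattini ↥P)).exists_card_eq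
    rw [hj]
    exact Nat.Coprime.pow_right _ ((Nat.coprime_primes hq Nat.prime_two).2 hq2)
  · intro a ha k hk
    obtain ⟨j, rfl⟩ := Submonoid.mem_powers_iff a g |>.1 (mem_powers_iff_mem_zpowers.2 ha)
    clear ha
    induction j with
    | zero => simp [one_mem]
    | succ j ih =>
      have e : g ^ (j + 1) * k * (g ^ (j + 1))⁻¹ * k⁻¹ =
          (g * (g ^ j * k * (g ^ j)⁻¹ * k⁻¹) * g⁻¹) * (g * k * g⁻¹ * k⁻¹) := by rw [pow_succ']; group
      rw [e]
      exact mul_mem (hF.conj_mem _ ih _) (hcon k hk)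

/-- An element of odd prime order outside `P` over one of the same order in a quotient by `P`. -/
theorem exists_odd_lift {K : Subgroup X} {H : Type*} [Group H] (g : K →* H) (hg : Function.Surjective g)
    (hker : ∀ k : K, g k = 1 ↔ (k : X) ∈ P) {q : ℕ} (hq : q.Prime) (hq2 : q ≠ 2) {h : H} (hh : orderOf h = q) :
    ∃ k : K, (k : X) ^ q = 1 ∧ (k : X) ∉ P ∧ ∃ n : ℕ, g k = h ^ 2 ^ n := by
  obtain ⟨x, rfl⟩ := hg h
  have hxq : (x : X) ^ q ∈ P := by
    rw [← SubmonoidClass.coe_pow, ← hker, map_pow, ← hh, pow_orderOf_eq_one]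
  obtain ⟨n, hn⟩ := hP ⟨_, hxq⟩
  refine ⟨x ^ 2 ^ n, ?_, fun hm => ?_, n, map_pow g x _⟩
  · rw [SubmonoidClass.coe_pow, ← pow_mul, mul_comm, pow_mul]
    exact congrArg Subtype.val hn
  · rw [← hker, map_pow, ← orderOf_dvd_iff_pow_eq_one, hh] at hm
    exact hq2 ((Nat.prime_dvd_prime_iff_eq hq Nat.prime_two).1 (hq.dvd_of_dvd_pow hm))

/-- An element inverting one of order 5 modulo `P` can be corrected to invert it. -/
theorem exists_inverter {y e : X} (hy : y ^ 5 = 1) (hyP : y ∉ P) (he : (e * y * e⁻¹) * y ∈ P) :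
    ∃ p ∈ P, (p * e) * y * (p * e)⁻¹ = y⁻¹ := by
  haveI : Fact (Nat.Prime 5) := ⟨by norm_num⟩
  haveI : Fact (Nat.Prime 2) := ⟨Nat.prime_two⟩
  set y' := e * y⁻¹ * e⁻¹ with hy'
  have hy'5 : y' ^ 5 = 1 := by rw [hy', conj_pow, inv_pow, hy, inv_one, mul_one, mul_inv_cancel]
  have hq : QuotientGroup.mk' P y' = QuotientGroup.mk' P y := by
    have h := (QuotientGroup.eq_one_iff _).2 he
    change QuotientGroup.mk' P (e * y * e⁻¹ * y) = 1 at h
    rw [map_mul] at h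
    rw [hy', show e * y⁻¹ * e⁻¹ = (e * y * e⁻¹)⁻¹ by group, map_inv, inv_eq_iff_mul_eq_one]
    exact h
  have hyo : orderOf y = 5 := orderOf_eq_prime hy fun h => hyP (h ▸ one_mem P)
  have hy'o : orderOf y' = 5 := orderOf_eq_prime hy'5 fun h => by
    rw [h, map_one] at hq
    exact hyP ((QuotientGroup.eq_one_iff y).1 hq.symm)
  set J := P ⊔ zpowers y with hJ
  have hyJ : y ∈ J := mem_sup_right (mem_zpowers y)
  have hPJ : P ≤ J := le_sup_left
  have hdecomp : ∀ j ∈ J, ∃ p ∈ P, ∃ i : ℤ, j = p * y ^ i := by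
    intro j hj
    rw [hJ, ← SetLike.mem_coe, Subgroup.normal_mul] at hj
    obtain ⟨p, hp, c, hc, rfl⟩ := Set.mem_mul.1 hj
    obtain ⟨i, rfl⟩ := mem_zpowers_iff.1 hc
    exact ⟨p, hp, i, rfl⟩
  have hy'J : y' ∈ J := by
    obtain h := QuotientGroup.eq.1 hq.symm
    simpa using mul_mem hyJ (hPJ h)
  have hJcard : Nat.card J ∣ Nat.card P * 5 := by
    obtain ⟨a, ha⟩ := hP.exists_card_eq
    have h1 := Subgroup.relIndex_ker J (QuotientGroup.mk' P)
    rw [QuotientGroup.ker_mk'] at h1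
    have h2 : J.map (QuotientGroup.mk' P) ≤ zpowers (QuotientGroup.mk' P y) := by
      rw [hJ, Subgroup.map_sup, MonoidHom.map_zpowers]
      refine sup_le ?_ le_rfl
      rw [(Subgroup.map_eq_bot_iff P).2 (by rw [QuotientGroup.ker_mk'])]
      exact bot_le
    have h3 := card_dvd_of_le h2
    rw [Nat.card_zpowers, ← h1] at h3
    rw [← (P.subgroupOf J).card_mul_index, Nat.card_congr (subgroupOfEquivOfLe hPJ).toEquiv]
    refine Nat.mul_dvd_mul_left _ (h3.trans (hyo ▸ orderOf_map_dvd _ y))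
  have hsyl : ∀ (u : X) (hu : u ∈ J), orderOf u = 5 →
      ∃ S : Sylow 5 J, (S : Subgroup J) = (zpowers u).subgroupOf J := by
    intro u hu huo
    have hzJ : zpowers u ≤ J := zpowers_le.2 hu
    have hpg : IsPGroup 5 ((zpowers u).subgroupOf J) := IsPGroup.of_card (n := 1) (by
      rw [Nat.card_congr (subgroupOfEquivOfLe hzJ).toEquiv, Nat.card_zpowers, huo, pow_one])
    obtain ⟨S, hS⟩ := hpg.exists_le_sylow
    refine ⟨S, (eq_of_le_of_card_ge hS ?_).symm⟩
    obtain ⟨k, hk⟩ := S.2.exists_card_eq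
    rw [Nat.card_congr (subgroupOfEquivOfLe hzJ).toEquiv, Nat.card_zpowers, huo, hk]
    have hd : 5 ^ k ∣ Nat.card P * 5 := hk ▸ (card_subgroup_dvd_card _).trans hJcard
    obtain ⟨a, ha⟩ := hP.exists_card_eq
    have hco : (5 ^ k).Coprime (Nat.card P) := by rw [ha]; exact (Nat.Coprime.pow k a (by norm_num))
    exact Nat.le_of_dvd (by norm_num) (hco.dvd_of_dvd_mul_left hd)
  obtain ⟨S, hS⟩ := hsyl y hyJ hyo
  obtain ⟨S', hS'⟩ := hsyl y' hy'J hy'o
  obtain ⟨j, hj⟩ := MulAction.exists_smul_eq J S S'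
  obtain ⟨p, hp, i, hpi⟩ := hdecomp j j.2
  have hmem : (j : X) * y * (j : X)⁻¹ ∈ zpowers y' := by
    have h1 : j * ⟨y, hyJ⟩ * j⁻¹ ∈ (S' : Subgroup J) := by
      rw [← hj, Sylow.coe_subgroup_smul]
      exact ⟨⟨y, hyJ⟩, hS ▸ mem_zpowers y, rfl⟩
    rw [hS', mem_subgroupOf] at h1
    exact h1
  obtain ⟨k, hk⟩ := mem_zpowers_iff.1 hmem
  have hjy : (j : X) * y * (j : X)⁻¹ = p * y * p⁻¹ := by rw [hpi]; group
  rw [hjy] at hk
  have hk' : y ^ k = y := by
    have h := congrArg (QuotientGroup.mk' P) hk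
    rw [map_zpow, hq, map_mul, map_mul, map_inv, show QuotientGroup.mk' P p = 1 from
      (QuotientGroup.eq_one_iff p).2 hp, one_mul, inv_one, mul_one, ← map_zpow] at h
    have h' : y⁻¹ * y ^ k ∈ P := QuotientGroup.eq.1 h.symm
    obtain ⟨a, ha⟩ := IsPGroup.iff_orderOf.1 hP ⟨_, h'⟩
    rw [← Subgroup.orderOf_coe] at ha
    have h5 : orderOf (y⁻¹ * y ^ k) ∣ 5 := orderOf_dvd_of_pow_eq_one (by
      rw [((Commute.refl y).zpow_right k).inv_left.mul_pow, inv_pow, hy, ← zpow_natCast, ← zpow_mul, mul_comm,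
        zpow_mul, zpow_natCast, hy, one_zpow, inv_one, one_mul])
    have h1 : orderOf (y⁻¹ * y ^ k) = 1 :=
      Nat.eq_one_of_dvd_coprimes (Nat.Coprime.pow_left a (by norm_num : (2 : ℕ).Coprime 5)) ha.dvd h5
    exact (inv_mul_eq_one.1 (orderOf_eq_one_iff.1 h1)).symm
  have hky : y' ^ k = y' := by rw [hy', conj_zpow, inv_zpow, hk']
  rw [hky, hy'] at hk
  refine ⟨p⁻¹, inv_mem hp, ?_⟩
  have e1 : e * y * e⁻¹ = p * y⁻¹ * p⁻¹ := by
    calc e * y * e⁻¹ = (e * y⁻¹ * e⁻¹)⁻¹ := by group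
      _ = (p * y * p⁻¹)⁻¹ := by rw [hk]
      _ = _ := by group
  calc p⁻¹ * e * y * (p⁻¹ * e)⁻¹ = p⁻¹ * (e * y * e⁻¹) * p := by group
    _ = y⁻¹ := by rw [e1]; group

end Cfsg.Agent.GroupStructure3.RankFourA5
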