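import Cfsg.Agent.GroupStructure3.RankFourA5.Lifts
import Cfsg.Agent.GroupStructure3.RankFourA5.Central
import Cfsg.Prelude.Def_Transfer

/-!
# The radical under an alternating group of degree five
-/

set_option autoImplicit false
set_option linter.all false

namespace Cfsg.Agent.GroupStructure3.RankFourA5

open Subgroup Equiv
open scoped commutatorElement

theorem main {X : Type*} [Group X] [Finite X] (hc : Cfsg.IsPConstrained 2 X) (hO : Cfsg.pPrimeCore 2 X = ⊥)
    (h4 : Cfsg.SectionalPRankLE 2 4 X) (A : Subgroup (X ⧸ Cfsg.pCore 2 X))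
    (eA : ↥A ≃* ↥(alternatingGroup (Fin 5))) :
    (Cfsg.IsElementaryAbelian 2 (Cfsg.pCore 2 X) ∧ Nat.card ↥(Cfsg.pCore 2 X) = 16) ∨
      (Nat.card ↥(Cfsg.pCore 2 X) = 32 ∧ ∃ A B : Subgroup ↥(Cfsg.pCore 2 X),
        Nonempty (↥A ≃* QuaternionGroup 2) ∧ Nonempty (↥B ≃* DihedralGroup 4) ∧ (∀ a ∈ A, ∀ b ∈ B, a * b = b * a) ∧
          A ⊔ B = ⊤ ∧ A ⊓ B = Subgroup.center ↥(Cfsg.pCore 2 X)) := by
  haveI : Fact (Nat.Prime 2) := ⟨Nat.prime_two⟩
  haveI : Fact (Nat.Prime 3) := ⟨Nat.prime_three⟩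
  haveI : Fact (Nat.Prime 5) := ⟨by norm_num⟩
  have hcent := centralizer_le_pCore hc hO
  have hP : IsPGroup 2 (Cfsg.pCore 2 X) := Cores.pCore_isPGroup 2
  have hPn0 : (Cfsg.pCore 2 X).Normal := inferInstance
  set P := Cfsg.pCore 2 X with hPdef
  haveI := hPn0
  set K : Subgroup X := A.comap (QuotientGroup.mk' P) with hK
  let g : K →* alternatingGroup (Fin 5) := eA.toMonoidHom.comp ((QuotientGroup.mk' P).subgroupComap A)
  have hg : Function.Surjective g := eA.surjective.comp fun ⟨v, hv⟩ => by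
    obtain ⟨x, rfl⟩ := QuotientGroup.mk'_surjective P v; exact ⟨⟨x, hv⟩, rfl⟩
  have hker : ∀ k : K, g k = 1 ↔ (k : X) ∈ P := fun k => by
    show eA ((QuotientGroup.mk' P).subgroupComap A k) = 1 ↔ _
    rw [EmbeddingLike.map_eq_one_iff, Subtype.ext_iff]
    exact QuotientGroup.eq_one_iff _
  let a5 : alternatingGroup (Fin 5) := ⟨swap 0 1 * swap 1 2 * swap 2 3 * swap 3 4, by
    rw [Equiv.Perm.mem_alternatingGroup]; decide +kernel⟩
  let a3 : alternatingGroup (Fin 5) := ⟨swap 0 1 * swap 1 2, by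
    rw [Equiv.Perm.mem_alternatingGroup]; decide +kernel⟩
  let a2 : alternatingGroup (Fin 5) := ⟨swap 1 4 * swap 2 3, by
    rw [Equiv.Perm.mem_alternatingGroup]; decide +kernel⟩
  have h5 : orderOf a5 = 5 := orderOf_eq_prime (Subtype.ext (by
      show (swap 0 1 * swap 1 2 * swap 2 3 * swap 3 4 : Perm (Fin 5)) ^ 5 = 1
      decide +kernel)) (fun h => absurd (congrArg Subtype.val h)
      (show (swap 0 1 * swap 1 2 * swap 2 3 * swap 3 4 : Perm (Fin 5)) ≠ 1 by decide +kernel))
  have h3 : orderOf a3 = 3 := orderOf_eq_prime (Subtype.ext (by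
      show (swap 0 1 * swap 1 2 : Perm (Fin 5)) ^ 3 = 1
      decide +kernel)) (fun h => absurd (congrArg Subtype.val h)
      (show (swap 0 1 * swap 1 2 : Perm (Fin 5)) ≠ 1 by decide +kernel))
  have hinv0 : a2 * a5 * a2⁻¹ = a5⁻¹ := Subtype.ext (by
      show (swap 1 4 * swap 2 3 : Perm (Fin 5)) * (swap 0 1 * swap 1 2 * swap 2 3 * swap 3 4) *
        (swap 1 4 * swap 2 3)⁻¹ = (swap 0 1 * swap 1 2 * swap 2 3 * swap 3 4)⁻¹
      decide +kernel)
  have h22 : a2 * a2 = 1 := Subtype.ext (by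
      show (swap 1 4 * swap 2 3 : Perm (Fin 5)) * (swap 1 4 * swap 2 3) = 1
      decide +kernel)
  have h2ne : a2 ≠ 1 := fun h => absurd (congrArg Subtype.val h)
      (show (swap 1 4 * swap 2 3 : Perm (Fin 5)) ≠ 1 by decide +kernel)
  obtain ⟨ky, hy5, hyP, ny, hgy⟩ := exists_odd_lift hP g hg hker (by norm_num : Nat.Prime 5) (by norm_num) h5
  obtain ⟨kz, hz3, hzP, nz, -⟩ := exists_odd_lift hP g hg hker Nat.prime_three (by norm_num) h3
  obtain ⟨ke, hge⟩ := hg a2
  have hmod : ((ke : X) * ky * (ke : X)⁻¹) * ky ∈ P := by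
    have h : g (ke * ky * ke⁻¹ * ky) = 1 := by
      simp only [map_mul, map_inv, hge, hgy]
      rw [← conj_pow, hinv0, inv_pow, inv_mul_cancel]
    exact (hker _).1 h
  obtain ⟨p0, hp0, hinv⟩ := exists_inverter hP hy5 hyP hmod
  set y : X := (ky : X) with hy
  set z : X := (kz : X) with hz
  set e : X := p0 * (ke : X) with he
  have heK : e ∈ K := mul_mem (show p0 ∈ K from by
    show QuotientGroup.mk' P p0 ∈ A
    rw [show QuotientGroup.mk' P p0 = 1 from (QuotientGroup.eq_one_iff p0).2 hp0]; exact one_mem A) ke.2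
  have hgeK : g ⟨e, heK⟩ = a2 := by
    have h : g (⟨e, heK⟩ * ke⁻¹) = 1 := (hker _).2 (by simp [he, hp0])
    rwa [map_mul, map_inv, hge, mul_inv_eq_one] at h
  have heP : e ∉ P := fun h => h2ne (hgeK ▸ (hker _).2 h)
  have he2 : e * e ∈ P := (hker (⟨e, heK⟩ * ⟨e, heK⟩)).1 (by rw [map_mul, hgeK, h22])
  have hD : Data P y z e := by
    refine ⟨hP, inferInstance, h4, hy5, hz3, heP, he2, hinv, ?_⟩
    intro L M hL hM hML hLP hcen hyt l hl
    haveI := hL; haveI := hM
    let q := QuotientGroup.mk' M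
    haveI : (L.map q).Normal := hL.map q (QuotientGroup.mk'_surjective M)
    set C : Subgroup X := (centralizer (L.map q : Set (X ⧸ M))).comap q with hC
    have hmem : ∀ k : X, k ∈ C ↔ ∀ l ∈ L, ⁅k, l⁆ ∈ M := by
      intro k
      rw [hC, mem_comap, mem_centralizer_iff]
      constructor
      · intro h l hl
        refine (QuotientGroup.eq_one_iff _).1 ?_
        show q ⁅k, l⁆ = 1
        rw [map_commutatorElement, commutatorElement_eq_one_iff_mul_comm]
        exact (h _ ⟨l, hl, rfl⟩).symm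
      · rintro h _ ⟨l, hl, rfl⟩
        have h1 := (QuotientGroup.eq_one_iff _).2 (h l hl)
        change q ⁅k, l⁆ = 1 at h1
        rw [map_commutatorElement, commutatorElement_eq_one_iff_mul_comm] at h1
        exact h1.symm
    have hC' : C.Normal := inferInstance
    set N := (C.subgroupOf K).map g with hN
    haveI : N.Normal := (hC'.subgroupOf K).map g hg
    have hyN : g ky ∈ N := ⟨ky, (hmem _).2 hyt, rfl⟩
    haveI : IsSimpleGroup (alternatingGroup (Fin 5)) :=
      alternatingGroup.isSimpleGroup (by rw [Nat.card_fin])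
    have htop : N = ⊤ := by
      refine (Subgroup.Normal.eq_bot_or_eq_top inferInstance).resolve_left fun h => ?_
      rw [h, mem_bot] at hyN
      exact hyP ((hker ky).1 hyN)
    obtain ⟨k, hk, hkz⟩ : g kz ∈ N := htop ▸ mem_top _
    have hdiff : g (kz * k⁻¹) = 1 := by rw [map_mul, map_inv, hkz, mul_inv_cancel]
    have hzC : z ∈ C := by
      have h1 : ((kz * k⁻¹ : K) : X) ∈ C := (hmem _).2 (hcen _ ((hker _).1 hdiff))
      have := mul_mem h1 (mem_subgroupOf.1 hk)
      simpa using this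
    exact (hmem z).1 hzC l hl
  -- the top layer
  haveI : (frattini ↥P).Characteristic := frattini_characteristic
  set F := (frattini P).map P.subtype with hFdef
  haveI hFn : F.Normal := ConjAct.normal_of_characteristic_of_normal
  have hFP : F ≤ P := map_subtype_le _
  have hFsq : ∀ p ∈ P, p * p ∈ F := fun p hp =>
    ⟨⟨p, hp⟩ * ⟨p, hp⟩, by rw [← pow_two]; exact Solvable.Basics.pow_mem_frattini hP _, rfl⟩
  have hFcomm : ∀ p ∈ P, ∀ r ∈ P, ⁅p, r⁆ ∈ F := by
    intro p hp r hr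
    haveI := hP.isNilpotent
    exact ⟨⁅(⟨p, hp⟩ : P), ⟨r, hr⟩⁆, Coprime.commutator_le_frattini P
      (commutator_mem_commutator (mem_top _) (mem_top _)), rfl⟩
  let q := QuotientGroup.mk' F
  set V := P.map q with hV
  have hPV : Nat.card P = Nat.card V * Nat.card F := by
    have h := Subgroup.relIndex_ker P q
    rw [QuotientGroup.ker_mk'] at h
    rw [← h, Subgroup.relIndex, ← Nat.card_congr (subgroupOfEquivOfLe hFP).toEquiv, mul_comm, card_mul_index]
  have hV16d : Nat.card V ∣ 16 := by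
    have hle := GenA.SectionalRankFour.card_le_of_squares h4 F P hFP
      (by rw [normalizer_eq_top]; exact le_top) hFsq
    rw [hPV] at hle
    have h1 : Nat.card V ≤ 2 ^ 4 := Nat.le_of_mul_le_mul_right hle Nat.card_pos
    obtain ⟨j, hj⟩ := (hP.map q).exists_card_eq
    rw [hV, hj] at h1 ⊢
    exact (show (2 : ℕ) ^ j ∣ 2 ^ 4 from pow_dvd_pow 2 ((Nat.pow_le_pow_iff_right (by norm_num)).1 h1))
  have hmod := card_modEq (q := 5) (g := q y) (by rw [← map_pow, hy5, map_one]) V (by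
    rintro _ ⟨p, hp, rfl⟩
    exact ⟨_, hPn0.conj_mem p hp y, by simp [q]⟩)
  obtain ⟨py, hpy, hpyF⟩ := exists_moved hP hcent (by norm_num : Nat.Prime 5) (by norm_num) hy5 hyP
  have hne : Nat.card ↥(V ⊓ centralizer {q y}) ≠ Nat.card V := fun h => hpyF (by
    have hm : q py ∈ V ⊓ centralizer {q y} :=
      (eq_of_le_of_card_ge inf_le_left h.ge).symm ▸ ⟨py, hpy, rfl⟩
    refine (QuotientGroup.eq_one_iff _).1 ?_
    show q ⁅y, py⁆ = 1
    rw [map_commutatorElement, commutatorElement_eq_one_iff_mul_comm]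
    exact (mem_centralizer_singleton_iff.1 hm.2).symm)
  obtain ⟨h16, h1⟩ := two_power_five hV16d (card_dvd_of_le inf_le_left) hne hmod
  have hTop : Top P F y z := by
    refine ⟨hFn, hFP, hFcomm, hFsq, frattini_le_squares, by rw [hPV, h16], fun p hp hpy' => ?_,
      exists_moved hP hcent Nat.prime_three (by norm_num) hz3 hzP⟩
    have hm : q p ∈ V ⊓ centralizer {q y} := ⟨⟨p, hp, rfl⟩, mem_centralizer_singleton_iff.2 (by
      have h := (QuotientGroup.eq_one_iff _).2 hpy'
      change q ⁅y, p⁆ = 1 at h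
      rw [map_commutatorElement, commutatorElement_eq_one_iff_mul_comm] at h
      exact h.symm)⟩
    rw [card_eq_one.1 h1, mem_bot] at hm
    exact (QuotientGroup.eq_one_iff p).1 hm
  by_cases hF0 : F = ⊥
  · left
    refine ⟨⟨⟨⟨fun a b => Subtype.ext ?_⟩⟩, fun a ha => ?_⟩, by rw [hPV, h16, hF0, card_bot]⟩
    · show (a : X) * b = b * a
      rw [← commutatorElement_eq_one_iff_mul_comm]
      exact mem_bot.1 (hF0 ▸ hFcomm a a.2 b b.2)
    · rw [pow_two]; exact mem_bot.1 (hF0 ▸ hFsq a ha)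
  · right
    obtain ⟨h2, hT2⟩ := top_card hD hTop hF0
    haveI : ((⊥ : Subgroup X).subgroupOf P).Normal := by rw [bot_subgroupOf]; infer_instance
    obtain ⟨-, w, hgood, h32, h12⟩ := five hD hT2 ⊥ bot_le (by rw [card_bot, mul_one, h2])
    let i : ↥P ⧸ (⊥ : Subgroup X).subgroupOf P ≃* ↥P :=
      (QuotientGroup.quotientMulEquivOfEq (bot_subgroupOf P)).trans QuotientGroup.quotientBot
    have hP32 : Nat.card P = 32 := by rw [← Nat.card_congr i.toEquiv, h32]
    exact ⟨hP32, central_product (good_congr hgood i) hP32 (by rw [invs_congr i, h12])⟩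

end Cfsg.Agent.GroupStructure3.RankFourA5
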