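import Cfsg.Agent.GroupStructure3.RankFourA5.Fpf
import Cfsg.Agent.SolvStruct.ExtraspecialTwo

/-!
# The lower layer has order two
-/

set_option autoImplicit false
set_option linter.all false

namespace Cfsg.Agent.GroupStructure3.RankFourA5

open Subgroup
open scoped commutatorElement

variable {X : Type*} [Group X] [Finite X] {P Φ : Subgroup X} {y z e : X}

/-- The nontrivial classes of the upper layer with square in `M`. -/
def sqClass (P Φ M : Subgroup X) [Φ.Normal] : Set (X ⧸ Φ) :=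
  {v | v ≠ 1 ∧ ∃ p ∈ P, QuotientGroup.mk' Φ p = v ∧ p * p ∈ M}

section

variable [Φ.Normal] (hD : Data P y z e) (hT : Two P Φ y z)
include hD hT

omit hD in
theorem sq_well {p r : X} (hp : p ∈ P) (h : QuotientGroup.mk' Φ p = QuotientGroup.mk' Φ r) :
    r * r = p * p ∧ r ∈ P := by
  have hf : p⁻¹ * r ∈ Φ := QuotientGroup.eq.1 h
  set f := p⁻¹ * r with hfd
  have hr : r = p * f := by rw [hfd, mul_inv_cancel_left]
  refine ⟨?_, hr ▸ mul_mem hp (hT.le hf)⟩
  rw [hr]
  calc p * f * (p * f) = p * (f * p) * f := by group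
    _ = p * p * (f * f) := by rw [← hT.central p hp f hf]; group
    _ = p * p := by rw [hT.exp f hf, mul_one]

omit hD in
theorem card_preimage (T : Set (X ⧸ Φ)) :
    {p : X | QuotientGroup.mk' Φ p ∈ T}.ncard = Nat.card Φ * T.ncard := by
  rw [← Nat.card_coe_set_eq, ← Nat.card_coe_set_eq, ← Nat.card_prod]
  exact Nat.card_congr (QuotientGroup.preimageMkEquivSubgroupProdSet Φ T)

theorem yΦ : ∀ f ∈ Φ, y * f = f * y := y_trivial hD hT

/-- For a subgroup of index two of the lower layer five classes have square in it; the quotient by it is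
extraspecial with twelve solutions of `x * x = 1`. -/
theorem five (M : Subgroup X) (hM : M ≤ Φ) (hM2 : Nat.card Φ = 2 * Nat.card M)
    [(M.subgroupOf P).Normal] :
    (sqClass P Φ M).ncard = 5 ∧ ∃ w : ↥P ⧸ M.subgroupOf P,
      SolvStruct.ExtraspecialTwo.Good (↥P ⧸ M.subgroupOf P) w ∧
      Nat.card (↥P ⧸ M.subgroupOf P) = 32 ∧
      SolvStruct.ExtraspecialTwo.invs (↥P ⧸ M.subgroupOf P) = 12 := by
  haveI := hT.normal
  haveI := hD.normal
  haveI : Fact (Nat.Prime 5) := ⟨by norm_num⟩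
  classical
  let π := QuotientGroup.mk' (M.subgroupOf P)
  have hπ : ∀ p : P, π p = 1 ↔ (p : X) ∈ M := fun p => QuotientGroup.eq_one_iff p
  have hMcard : Nat.card (M.subgroupOf P) = Nat.card M :=
    Nat.card_congr (subgroupOfEquivOfLe (hM.trans hT.le)).toEquiv
  have hE32 : Nat.card (↥P ⧸ M.subgroupOf P) = 32 := by
    have h := Subgroup.card_eq_card_quotient_mul_card_subgroup (M.subgroupOf P)
    rw [hT.card, hM2, hMcard] at h
    nlinarith [Nat.card_pos (α := M), h]
  obtain ⟨f, hfΦ, hfM⟩ : ∃ f ∈ Φ, f ∉ M := by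
    by_contra hcon
    push Not at hcon
    have := card_le_of_le (show Φ ≤ M from hcon)
    have := Nat.card_pos (α := M)
    omega
  have hMf : ∀ g ∈ Φ, g ∈ M ∨ g * f ∈ M := by
    have hf2 := hT.exp f hfΦ
    have hn : ∀ m ∈ M, f * m * f⁻¹ ∈ M := fun m hm => by
      rw [hT.central f (hT.le hfΦ) m (hM hm), mul_inv_cancel_right]; exact hm
    have hle : adjoin M f hf2 hn ≤ Φ := by
      rintro g (hg | hg)
      · exact hM hg
      · simpa using mul_mem (hM hg) (inv_mem hfΦ)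
    have heq : adjoin M f hf2 hn = Φ := eq_of_le_of_card_ge hle (by rw [card_adjoin hf2 hn hfM, hM2])
    intro g hg
    rw [← heq] at hg
    exact hg
  set w : ↥P ⧸ M.subgroupOf P := π ⟨f, hT.le hfΦ⟩ with hw
  have hwne : w ≠ 1 := fun h => hfM ((hπ _).1 h)
  have hΦw : ∀ p : P, (p : X) ∈ Φ → π p = 1 ∨ π p = w := by
    intro p hp
    rcases hMf _ hp with h | h
    · exact Or.inl ((hπ p).2 h)
    · refine Or.inr ?_
      have : π (p * ⟨f, hT.le hfΦ⟩) = 1 := (hπ _).2 h
      rw [map_mul] at this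
      have hww : w * w = 1 := by
        rw [hw, ← map_mul, hπ]
        show f * f ∈ M
        rw [hT.exp f hfΦ]; exact one_mem M
      calc π p = π p * (w * w) := by rw [hww, mul_one]
        _ = w := by rw [← mul_assoc, this, one_mul]
  -- the radical of the commutator form
  have yconj : ∀ m ∈ M, y * m * y⁻¹ = m := fun m hm => by
    rw [yΦ hD hT m (hM hm), mul_inv_cancel_right]
  set R : Subgroup X := ((center (↥P ⧸ M.subgroupOf P)).comap π).map P.subtype with hR
  have hRmem : ∀ p, p ∈ R ↔ p ∈ P ∧ ∀ r ∈ P, ⁅r, p⁆ ∈ M := by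
    intro p
    constructor
    · rintro ⟨⟨p, hp⟩, hc, rfl⟩
      refine ⟨hp, fun r hr => ?_⟩
      have h := mem_center_iff.1 hc (π ⟨r, hr⟩)
      rw [← commutatorElement_eq_one_iff_mul_comm, ← map_commutatorElement] at h
      exact (hπ _).1 h
    · rintro ⟨hp, hall⟩
      refine ⟨⟨p, hp⟩, mem_center_iff.2 fun x => ?_, rfl⟩
      obtain ⟨⟨r, hr⟩, rfl⟩ := QuotientGroup.mk'_surjective _ x
      rw [← commutatorElement_eq_one_iff_mul_comm, ← map_commutatorElement]
      exact (hπ _).2 (hall r hr)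
  have hΦR : Φ ≤ R := fun g hg => (hRmem g).2 ⟨hT.le hg, fun r hr => by
    rw [commutatorElement_eq_one_iff_mul_comm.2 (hT.central r hr g hg)]; exact one_mem M⟩
  have hRinv : ∀ p ∈ R, y * p * y⁻¹ ∈ R := by
    intro p hp
    obtain ⟨hpP, hall⟩ := (hRmem p).1 hp
    refine (hRmem _).2 ⟨hD.normal.conj_mem p hpP y, fun r hr => ?_⟩
    have h0 := hall (y⁻¹ * r * y) (by simpa using hD.normal.conj_mem r hr y⁻¹)
    have e1 : ⁅r, y * p * y⁻¹⁆ = y * ⁅y⁻¹ * r * y, p⁆ * y⁻¹ := by
      simp only [commutatorElement_def]; group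
    rw [e1, yconj _ h0]; exact h0
  have hRΦ : R = Φ := by
    refine (eq_or_eq hD hT hΦR (map_subtype_le _) hRinv).resolve_right fun hRP => ?_
    -- otherwise squaring is linear with an invariant kernel of index two
    have hall : ∀ p ∈ P, ∀ r ∈ P, ⁅r, p⁆ ∈ M := fun p hp => ((hRmem p).1 (hRP ▸ hp)).2
    have hlin : ∀ p ∈ P, ∀ r ∈ P, (p * r) * (p * r) * (p * p * (r * r))⁻¹ ∈ M := by
      intro p hp r hr
      have : (p * r) * (p * r) * (p * p * (r * r))⁻¹ = p * ⁅r, p⁆ * p⁻¹ := by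
        simp only [commutatorElement_def]; group
      rw [this, hT.central p hp _ (hM (hall p hp r hr)), mul_inv_cancel_right]
      exact hall p hp r hr
    let K : Subgroup X :=
      { carrier := {p | p ∈ P ∧ p * p ∈ M}
        one_mem' := ⟨one_mem P, by simp [one_mem]⟩
        mul_mem' := fun {a b} ha hb => ⟨mul_mem ha.1 hb.1, by
          have := mul_mem (hlin a ha.1 b hb.1) (mul_mem ha.2 hb.2)
          rwa [inv_mul_cancel_right] at this⟩
        inv_mem' := fun {a} ha => ⟨inv_mem ha.1, by rw [← mul_inv_rev]; exact inv_mem ha.2⟩ }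
    have hΦK : Φ ≤ K := fun g hg => ⟨hT.le hg, by rw [hT.exp g hg]; exact one_mem M⟩
    have hKinv : ∀ p ∈ K, y * p * y⁻¹ ∈ K := fun p hp =>
      ⟨hD.normal.conj_mem p hp.1 y, by rw [conj_mul, yconj _ hp.2]; exact hp.2⟩
    have hKne : K ≠ P := by
      intro h
      refine hfM ?_
      have hle : closure {x | ∃ p ∈ P, x = p * p} ≤ M := (closure_le _).2 (by
        rintro _ ⟨p, hp, rfl⟩
        exact (h ▸ hp : p ∈ K).2)
      exact hle (hT.gen hfΦ)
    have hK : K = Φ := (eq_or_eq hD hT hΦK (fun p hp => hp.1) hKinv).resolve_right hKne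
    -- the squaring map has image of order at most two
    let σ : P →* ↥P ⧸ M.subgroupOf P :=
      { toFun := fun p => π (p * p)
        map_one' := by simp
        map_mul' := fun a b => by
          have h : π ((a * b) * (a * b) * (a * a * (b * b))⁻¹) = 1 := (hπ _).2 (hlin a a.2 b b.2)
          rw [map_mul, map_inv, mul_inv_eq_one, map_mul π (a * a)] at h
          exact h }
    have hker : σ.ker = K.subgroupOf P := by
      ext p; exact ⟨fun h => ⟨p.2, (hπ _).1 h⟩, fun h => (hπ _).2 h.2⟩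
    have hrange : Nat.card σ.range ≤ 2 := by
      rw [← SetLike.coe_sort_coe, Nat.card_coe_set_eq]
      refine (Set.ncard_le_ncard (t := {1, w}) ?_ (Set.toFinite _)).trans ?_
      · rintro _ ⟨p, rfl⟩
        exact hΦw (p * p) (hT.sq p p.2)
      · exact (Set.ncard_insert_le _ _).trans (by rw [Set.ncard_singleton])
    have h := σ.ker.card_mul_index
    rw [index_ker, hker, hK, Nat.card_congr (subgroupOfEquivOfLe hT.le).toEquiv, hT.card] at h
    have := Nat.card_pos (α := Φ)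
    nlinarith
  have hgood : SolvStruct.ExtraspecialTwo.Good (↥P ⧸ M.subgroupOf P) w := by
    refine ⟨hwne, ?_, fun x => ?_, fun a b => ?_, fun a => ?_⟩
    · rw [hw, ← map_mul, hπ]; show f * f ∈ M; rw [hT.exp f hfΦ]; exact one_mem M
    · constructor
      · intro hx
        obtain ⟨p, rfl⟩ := QuotientGroup.mk'_surjective _ x
        refine hΦw p ?_
        rw [← hRΦ]
        exact ⟨p, hx, rfl⟩
      · rintro (rfl | rfl)
        · exact one_mem _
        · obtain ⟨⟨r, hr⟩, hc, hrf⟩ : f ∈ R := hΦR hfΦ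
          have : (⟨r, hr⟩ : P) = ⟨f, hT.le hfΦ⟩ := Subtype.ext hrf
          rw [hw, ← this]; exact hc
    · obtain ⟨p, rfl⟩ := QuotientGroup.mk'_surjective _ a
      obtain ⟨r, rfl⟩ := QuotientGroup.mk'_surjective _ b
      have e1 : π p * π r = π ⁅p, r⁆ * (π r * π p) := by
        rw [map_commutatorElement, commutatorElement_def]; group
      rcases hΦw ⁅p, r⁆ (hT.comm p p.2 r r.2) with h | h
      · left; rw [e1, h, one_mul]
      · right; rw [e1, h]
    · obtain ⟨p, rfl⟩ := QuotientGroup.mk'_surjective _ a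
      rw [← map_mul]
      exact hΦw (p * p) (hT.sq p p.2)
  -- counting
  set T := sqClass P Φ M with hTdef
  have hT5 : 5 ∣ T.ncard := by
    have hmod := ncard_modEq (q := 5) (g := QuotientGroup.mk' Φ y)
      (by rw [← map_pow, hD.y5, map_one]) T (by
        rintro v ⟨hv1, p, hp, rfl, hpM⟩
        refine ⟨fun h => hv1 (conj_eq_one_iff.1 h), y * p * y⁻¹, hD.normal.conj_mem p hp y, by simp, ?_⟩
        rw [conj_mul, yconj _ hpM]; exact hpM)
    have hempty : T ∩ {x | QuotientGroup.mk' Φ y * x = x * QuotientGroup.mk' Φ y} = ∅ := by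
      rw [Set.eq_empty_iff_forall_notMem]
      rintro v ⟨⟨hv1, p, hp, rfl, -⟩, hv⟩
      refine hv1 ((QuotientGroup.eq_one_iff p).2 (hT.yV p hp ((QuotientGroup.eq_one_iff _).1 ?_)))
      show QuotientGroup.mk' Φ ⁅y, p⁆ = 1
      rw [map_commutatorElement, commutatorElement_eq_one_iff_mul_comm]
      exact hv
    rw [hempty, Set.ncard_empty] at hmod
    exact Nat.modEq_zero_iff_dvd.1 hmod
  have hinvs : SolvStruct.ExtraspecialTwo.invs (↥P ⧸ M.subgroupOf P) = 2 * (1 + T.ncard) := by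
    have h1 : {p : X | QuotientGroup.mk' Φ p ∈ insert 1 T} = {p | p ∈ P ∧ p * p ∈ M} := by
      ext p
      constructor
      · rintro (h | ⟨-, r, hr, hrp, hrM⟩)
        · have hpΦ : p ∈ Φ := (QuotientGroup.eq_one_iff p).1 h
          exact ⟨hT.le hpΦ, by rw [hT.exp p hpΦ]; exact one_mem M⟩
        · obtain ⟨hsq, hpP⟩ := sq_well hT hr hrp
          exact ⟨hpP, hsq ▸ hrM⟩
      · rintro ⟨hp, hpM⟩
        by_cases h : QuotientGroup.mk' Φ p = 1
        · exact Or.inl h
        · exact Or.inr ⟨h, p, hp, rfl, hpM⟩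
    have h2 := card_preimage hT (insert 1 T)
    rw [h1, Set.ncard_insert_of_notMem (fun h => h.1 rfl) (Set.toFinite _), hM2] at h2
    have h3 : Nat.card {p : P | π p * π p = 1} = {p : X | p ∈ P ∧ p * p ∈ M}.ncard := by
      rw [← Nat.card_coe_set_eq]
      exact Nat.card_congr
        { toFun := fun p => ⟨(p.1 : X), p.1.2, (hπ _).1 (by rw [map_mul]; exact p.2)⟩
          invFun := fun p => ⟨⟨p.1, p.2.1⟩, by
            show π _ * π _ = 1
            rw [← map_mul, hπ]; exact p.2.2⟩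
          left_inv := fun p => rfl
          right_inv := fun p => rfl }
    have h4 : Nat.card {p : P | π p * π p = 1} =
        Nat.card M * SolvStruct.ExtraspecialTwo.invs (↥P ⧸ M.subgroupOf P) := by
      rw [SolvStruct.ExtraspecialTwo.invs, ← hMcard, ← Nat.card_prod]
      exact Nat.card_congr (QuotientGroup.preimageMkEquivSubgroupProdSet (M.subgroupOf P)
        {x | x * x = 1})
    have := Nat.card_pos (α := M)
    rw [← h3, h4] at h2
    nlinarith
  obtain ⟨m, hm, hm'⟩ := SolvStruct.ExtraspecialTwo.count _ _ w hgood rfl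
  have hm2 : m = 2 := by
    rw [hE32, show (32 : ℕ) = 2 ^ 5 from rfl] at hm
    have := Nat.pow_right_injective le_rfl hm
    omega
  subst hm2
  norm_num at hm'
  have hT5' : T.ncard = 5 := by
    obtain ⟨k, hk⟩ := hT5
    rcases hm' with h | h <;> omega
  exact ⟨hT5', w, hgood, hE32, by rw [hinvs, hT5']⟩

/-- The lower layer has order two. -/
theorem card_two (hne : Φ ≠ ⊥) : Nat.card Φ = 2 := by
  haveI := hD.normal
  haveI : Fact (Nat.Prime 2) := ⟨Nat.prime_two⟩
  haveI : Fact (Nat.Prime 3) := ⟨Nat.prime_three⟩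
  classical
  by_contra hcon
  have hΦ2 : IsPGroup 2 Φ := hD.pgroup.to_le hT.le
  obtain ⟨k, hk⟩ := hΦ2.exists_card_eq
  have hk2 : 2 ≤ k := by
    by_contra hlt
    interval_cases k
    · exact hne (card_eq_one.1 (by rw [hk]; rfl))
    · exact hcon (by rw [hk]; rfl)
  obtain ⟨M₀', hM₀'⟩ := Sylow.exists_subgroup_card_pow_prime 2 (G := Φ) (n := k - 2)
    (hk ▸ pow_dvd_pow 2 (by omega))
  set M₀ := M₀'.map Φ.subtype with hM₀
  have hM₀Φ : M₀ ≤ Φ := map_subtype_le _
  have hM₀c : Nat.card Φ = 4 * Nat.card M₀ := by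
    rw [hk, hM₀, card_map_of_injective Φ.subtype_injective, hM₀', show 4 = 2 ^ 2 from rfl, ← pow_add]
    congr 1; omega
  have hn : ∀ {f : X}, f ∈ Φ → ∀ m ∈ M₀, f * m * f⁻¹ ∈ M₀ := fun {f} hf m hm => by
    rw [hT.central f (hT.le hf) m (hM₀Φ hm), mul_inv_cancel_right]; exact hm
  have hlt : ∀ {K : Subgroup X}, K ≤ Φ → Nat.card K < Nat.card Φ → ∃ f ∈ Φ, f ∉ K := fun {K} hK h => by
    by_contra hcon; push Not at hcon
    have := card_le_of_le (show Φ ≤ K from hcon); omega
  obtain ⟨f₁, hf₁, hf₁M⟩ := hlt hM₀Φ (by have := Nat.card_pos (α := M₀); omega)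
  have hadle : ∀ {f : X} (hf : f ∈ Φ), adjoin M₀ f (hT.exp f hf) (hn hf) ≤ Φ := fun {f} hf g hg => by
    rcases hg with h | h
    · exact hM₀Φ h
    · simpa using mul_mem (hM₀Φ h) (inv_mem hf)
  obtain ⟨f₂, hf₂, hf₂M⟩ := hlt (hadle hf₁)
    (by rw [card_adjoin _ _ hf₁M]; have := Nat.card_pos (α := M₀); omega)
  have hf₂0 : f₂ ∉ M₀ := fun h => hf₂M (Or.inl h)
  have h12 : f₁ * f₂ ∉ M₀ := fun h => hf₂M (Or.inr (by rwa [hT.central f₂ (hT.le hf₂) f₁ hf₁]))
  set fs : Fin 3 → X := ![f₁, f₂, f₁ * f₂] with hfs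
  have hfsΦ : ∀ i, fs i ∈ Φ := by intro i; fin_cases i; exacts [hf₁, hf₂, mul_mem hf₁ hf₂]
  have hfsM : ∀ i, fs i ∉ M₀ := by intro i; fin_cases i; exacts [hf₁M, hf₂0, h12]
  let Ms : Fin 3 → Subgroup X := fun i => adjoin M₀ (fs i) (hT.exp _ (hfsΦ i)) (hn (hfsΦ i))
  have hMsc : ∀ i, Nat.card Φ = 2 * Nat.card (Ms i) := fun i => by
    rw [card_adjoin _ _ (hfsM i), hM₀c]; ring
  have hMsΦ : ∀ i, Ms i ≤ Φ := fun i => hadle (hfsΦ i)
  have hMn : ∀ i, ((Ms i).subgroupOf P).Normal := fun i => ⟨fun m hm p => by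
    rw [mem_subgroupOf] at hm ⊢
    rw [coe_mul, coe_mul, coe_inv, hT.central p p.2 _ (hMsΦ i hm), mul_inv_cancel_right]
    exact hm⟩
  -- every square lies in one of the three hyperplanes
  have hcover : ∀ g ∈ Φ, ∃ i, g ∈ Ms i := by
    have h2 := hT.exp f₁ hf₁
    have hn12 : ∀ m ∈ adjoin M₀ f₁ h2 (hn hf₁), f₂ * m * f₂⁻¹ ∈ adjoin M₀ f₁ h2 (hn hf₁) := fun m hm => by
      rw [hT.central f₂ (hT.le hf₂) m (hadle hf₁ hm), mul_inv_cancel_right]; exact hm
    have hle : adjoin (adjoin M₀ f₁ h2 (hn hf₁)) f₂ (hT.exp f₂ hf₂) hn12 ≤ Φ := by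
      rintro g (hg | hg)
      · exact hadle hf₁ hg
      · simpa using mul_mem (hadle hf₁ hg) (inv_mem hf₂)
    have heq := eq_of_le_of_card_ge hle (by
      rw [card_adjoin _ _ hf₂M, card_adjoin _ _ hf₁M, hM₀c]; omega)
    intro g hg
    rw [← heq] at hg
    rcases hg with (h | h) | (h | h)
    · exact ⟨0, Or.inl h⟩
    · exact ⟨0, Or.inr h⟩
    · exact ⟨1, Or.inr h⟩
    · refine ⟨2, Or.inr ?_⟩
      show g * (f₁ * f₂) ∈ M₀
      rwa [hT.central f₁ (hT.le hf₁) f₂ hf₂, ← mul_assoc]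
  let q := QuotientGroup.mk' Φ
  set V := P.map q with hV
  have hV16 : Nat.card V = 16 := by
    have h := Subgroup.relIndex_ker P q
    rw [QuotientGroup.ker_mk'] at h
    have h2 := (Φ.subgroupOf P).card_mul_index
    rw [Nat.card_congr (subgroupOfEquivOfLe hT.le).toEquiv, hT.card] at h2
    rw [hV, ← h, Subgroup.relIndex]
    exact Nat.eq_of_mul_eq_mul_left (Nat.card_pos (α := Φ)) (h2.trans (mul_comm _ _))
  let T : Fin 3 → Set (X ⧸ Φ) := fun i => sqClass P Φ (Ms i)
  have hT5 : ∀ i, (T i).ncard = 5 := fun i => by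
    haveI := hMn i
    exact (five hD hT (Ms i) (hMsΦ i) (hMsc i)).1
  set V1 : Set (X ⧸ Φ) := (V : Set (X ⧸ Φ)) \ {1} with hV1
  have hunion : T 0 ∪ T 1 ∪ T 2 = V1 := by
    ext v
    constructor
    · intro h
      obtain ⟨i, hi⟩ : ∃ i, v ∈ T i := by
        rcases h with (h | h) | h
        exacts [⟨0, h⟩, ⟨1, h⟩, ⟨2, h⟩]
      obtain ⟨hv1, p, hp, rfl, -⟩ := hi
      exact ⟨⟨p, hp, rfl⟩, hv1⟩
    · rintro ⟨⟨p, hp, rfl⟩, hv1⟩
      obtain ⟨i, hi⟩ := hcover _ (hT.sq p hp)
      have : q p ∈ T i := ⟨hv1, p, hp, rfl, hi⟩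
      fin_cases i
      exacts [Or.inl (Or.inl this), Or.inl (Or.inr this), Or.inr this]
  have hV15 : V1.ncard = 15 := by
    rw [hV1, Set.ncard_diff (by simp [one_mem]), Set.ncard_singleton, ← Nat.card_coe_set_eq,
      SetLike.coe_sort_coe, hV16]
  have hd01 : Disjoint (T 0) (T 1) ∧ Disjoint (T 0 ∪ T 1) (T 2) := by
    have e1 := Set.ncard_union_add_ncard_inter (T 0) (T 1)
    have e2 := Set.ncard_union_add_ncard_inter (T 0 ∪ T 1) (T 2)
    rw [hunion, hV15, hT5] at e2
    rw [hT5, hT5] at e1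
    constructor <;> rw [Set.disjoint_iff_inter_eq_empty, ← Set.ncard_eq_zero (Set.toFinite _)] <;> omega
  -- the element of order three
  have hzΦ : ∀ f ∈ Φ, z * f = f * z := fun f hf => by
    have := hD.triv Φ ⊥ hT.normal inferInstance bot_le hT.le
      (fun p hp l hl => by rw [mem_bot, commutatorElement_eq_one_iff_mul_comm]; exact hT.central p hp l hl)
      (fun l hl => by rw [mem_bot, commutatorElement_eq_one_iff_mul_comm]; exact yΦ hD hT l hl) f hf
    rwa [mem_bot, commutatorElement_eq_one_iff_mul_comm] at this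
  have hz3 : q z ^ 3 = 1 := by rw [← map_pow, hD.z3, map_one]
  set Fx : Set (X ⧸ Φ) := {x | q z * x = x * q z} with hFx
  have hfix : ∀ i, 2 ≤ (T i ∩ Fx).ncard ∧ (T i ∩ Fx).ncard ≤ 5 := by
    intro i
    have hmod := ncard_modEq (q := 3) hz3 (T i) (by
      rintro v ⟨hv1, p, hp, rfl, hpM⟩
      refine ⟨fun h => hv1 (conj_eq_one_iff.1 h), z * p * z⁻¹, hD.normal.conj_mem p hp z, by simp [q], ?_⟩
      rw [conj_mul, hzΦ _ (hMsΦ i hpM), mul_inv_cancel_right]; exact hpM)
    have hle : (T i ∩ Fx).ncard ≤ 5 := (Set.ncard_le_ncard Set.inter_subset_left (Set.toFinite _)).trans (hT5 i).le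
    rw [hT5] at hmod
    unfold Nat.ModEq at hmod
    refine ⟨?_, hle⟩
    by_contra hlt
    change 5 % 3 = (T i ∩ Fx).ncard % 3 at hmod
    omega
  set C := V ⊓ centralizer {q z} with hC
  have hCeq : (C : Set (X ⧸ Φ)) = insert 1 ((T 0 ∩ Fx) ∪ (T 1 ∩ Fx) ∪ (T 2 ∩ Fx)) := by
    rw [← Set.union_inter_distrib_right, ← Set.union_inter_distrib_right, hunion]
    ext x
    constructor
    · rintro ⟨hx, hc⟩
      by_cases h : x = 1
      · exact Or.inl h
      · exact Or.inr ⟨⟨hx, h⟩, (mem_centralizer_singleton_iff.1 hc).symm⟩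
    · rintro (rfl | ⟨⟨hx, -⟩, hc⟩)
      · exact one_mem C
      · exact ⟨hx, mem_centralizer_singleton_iff.2 (Eq.symm hc)⟩
  have hCcard : Nat.card C = (T 0 ∩ Fx).ncard + (T 1 ∩ Fx).ncard + (T 2 ∩ Fx).ncard + 1 := by
    rw [← SetLike.coe_sort_coe, Nat.card_coe_set_eq, hCeq, Set.ncard_insert_of_notMem ?_ (Set.toFinite _),
      Set.ncard_union_eq ?_ (Set.toFinite _) (Set.toFinite _),
      Set.ncard_union_eq (hd01.1.mono Set.inter_subset_left Set.inter_subset_left) (Set.toFinite _) (Set.toFinite _)]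
    · rw [← Set.union_inter_distrib_right]
      exact hd01.2.mono Set.inter_subset_left Set.inter_subset_left
    · rintro ((h | h) | h) <;> exact h.1.1 rfl
  have hd : Nat.card C ∈ Nat.divisors 16 := Nat.mem_divisors.2 ⟨hV16 ▸ card_dvd_of_le inf_le_left, by norm_num⟩
  have hmodC := card_modEq (q := 3) hz3 V (by
    rintro _ ⟨p, hp, rfl⟩; exact ⟨_, hD.normal.conj_mem p hp z, by simp [q]⟩)
  rw [hV16, ← hC] at hmodC
  rw [show Nat.divisors 16 = {1, 2, 4, 8, 16} by decide] at hd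
  unfold Nat.ModEq at hmodC
  have h16 : Nat.card C = 16 := by
    have := hfix 0; have := hfix 1; have := hfix 2
    simp only [Finset.mem_insert, Finset.mem_singleton] at hd
    omega
  obtain ⟨p, hp, hpz⟩ := hT.zV
  refine hpz ((QuotientGroup.eq_one_iff _).1 ?_)
  show q ⁅z, p⁆ = 1
  rw [map_commutatorElement, commutatorElement_eq_one_iff_mul_comm]
  have heq : C = V := eq_of_le_of_card_ge inf_le_left (by rw [h16, hV16])
  have hpC : q p ∈ C := heq ▸ ⟨p, hp, rfl⟩
  exact (mem_centralizer_singleton_iff.1 hpC.2).symm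

end

end Cfsg.Agent.GroupStructure3.RankFourA5
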