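import Cfsg.Agent.GroupStructure3.RankFourA5.Counting
import Cfsg.Prelude.Def_CaseTheorems
import Cfsg.Agent.GenA.SectionalRankFour

/-!
# Two layers of a 2-group under the alternating group of degree five
-/

set_option autoImplicit false
set_option linter.all false

namespace Cfsg.Agent.GroupStructure3.RankFourA5

open Subgroup
open scoped commutatorElement

variable {X : Type*} [Group X]

/-- The elements imitating an alternating group of degree five above `P`. -/
structure Data (P : Subgroup X) (y z e : X) : Prop where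
  pgroup : IsPGroup 2 P
  normal : P.Normal
  rank : Cfsg.SectionalPRankLE 2 4 X
  y5 : y ^ 5 = 1
  z3 : z ^ 3 = 1
  eP : e ∉ P
  e2 : e * e ∈ P
  inv : e * y * e⁻¹ = y⁻¹
  triv : ∀ L M : Subgroup X, L.Normal → M.Normal → M ≤ L → L ≤ P →
    (∀ p ∈ P, ∀ l ∈ L, ⁅p, l⁆ ∈ M) → (∀ l ∈ L, ⁅y, l⁆ ∈ M) → ∀ l ∈ L, ⁅z, l⁆ ∈ M

/-- An elementary central radical with elementary quotient of order 16. -/
structure Two (P Φ : Subgroup X) (y z : X) : Prop where
  normal : Φ.Normal
  le : Φ ≤ P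
  comm : ∀ p ∈ P, ∀ q ∈ P, ⁅p, q⁆ ∈ Φ
  sq : ∀ p ∈ P, p * p ∈ Φ
  central : ∀ p ∈ P, ∀ f ∈ Φ, p * f = f * p
  exp : ∀ f ∈ Φ, f * f = 1
  gen : Φ ≤ closure {x | ∃ p ∈ P, x = p * p}
  card : Nat.card P = 16 * Nat.card Φ
  yV : ∀ p ∈ P, ⁅y, p⁆ ∈ Φ → p ∈ Φ
  zV : ∃ p ∈ P, ⁅z, p⁆ ∉ Φ

/-- A subgroup with an involution normalising it. -/
def adjoin (M : Subgroup X) (f : X) (hf : f * f = 1) (hn : ∀ m ∈ M, f * m * f⁻¹ ∈ M) : Subgroup X where
  carrier := {x | x ∈ M ∨ x * f ∈ M}
  one_mem' := Or.inl (one_mem M)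
  mul_mem' {a b} ha hb := by
    have hfi : f⁻¹ = f := inv_eq_of_mul_eq_one_right hf
    rcases ha with ha | ha <;> rcases hb with hb | hb
    · exact Or.inl (mul_mem ha hb)
    · exact Or.inr (by rw [mul_assoc]; exact mul_mem ha hb)
    · refine Or.inr ?_
      have : a * b * f = (a * f) * (f * b * f⁻¹) := by
        calc a * b * f = a * (f * f) * b * f := by rw [hf, mul_one]
          _ = (a * f) * (f * b * f⁻¹) := by rw [hfi]; group
      rw [this]; exact mul_mem ha (hn b hb)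
    · refine Or.inl ?_
      have : a * b = (a * f) * (f * (b * f) * f⁻¹) := by
        calc a * b = a * (f * f) * b * (f * f⁻¹) := by rw [hf, mul_inv_cancel, mul_one, mul_one]
          _ = (a * f) * (f * (b * f) * f⁻¹) := by group
      rw [this]; exact mul_mem ha (hn _ hb)
  inv_mem' {a} ha := by
    have hfi : f⁻¹ = f := inv_eq_of_mul_eq_one_right hf
    rcases ha with ha | ha
    · exact Or.inl (inv_mem ha)
    · refine Or.inr ?_
      have : a⁻¹ * f = f * (a * f)⁻¹ * f⁻¹ := by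
        calc a⁻¹ * f = (f * f) * a⁻¹ * f := by rw [hf, one_mul]
          _ = f * (a * f)⁻¹ * f⁻¹ := by rw [mul_inv_rev, hfi]; group
      rw [this]; exact hn _ (inv_mem ha)

theorem mem_adjoin {M : Subgroup X} {f : X} {hf : f * f = 1} {hn : ∀ m ∈ M, f * m * f⁻¹ ∈ M} {x : X} :
    x ∈ adjoin M f hf hn ↔ x ∈ M ∨ x * f ∈ M := Iff.rfl

theorem card_adjoin [Finite X] {M : Subgroup X} {f : X} (hf : f * f = 1) (hn : ∀ m ∈ M, f * m * f⁻¹ ∈ M)
    (hfM : f ∉ M) : Nat.card (adjoin M f hf hn) = 2 * Nat.card M := by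
  classical
  haveI := Fintype.ofFinite X
  have e : ((adjoin M f hf hn : Subgroup X) : Set X) = (M : Set X) ∪ (fun m => m * f) '' (M : Set X) := by
    ext x
    constructor
    · rintro (h | h)
      · exact Or.inl h
      · exact Or.inr ⟨x * f, h, by show x * f * f = x; rw [mul_assoc, hf, mul_one]⟩
    · rintro (h | ⟨m, hm, rfl⟩)
      · exact Or.inl h
      · exact Or.inr (by show m * f * f ∈ M; rw [mul_assoc, hf, mul_one]; exact hm)
  rw [← SetLike.coe_sort_coe, Nat.card_coe_set_eq, e, Set.ncard_union_eq ?_ (Set.toFinite _) (Set.toFinite _),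
    Set.ncard_image_of_injective _ (mul_left_injective f), ← Nat.card_coe_set_eq, SetLike.coe_sort_coe]
  · ring
  · rw [Set.disjoint_left]
    rintro x hx ⟨m, hm, rfl⟩
    exact hfM (by simpa using mul_mem (inv_mem hm) hx)

variable [Finite X] {P Φ : Subgroup X} {y z e : X} (hD : Data P y z e) (hT : Two P Φ y z)
include hD hT

theorem card_dvd : Nat.card Φ ∣ 16 := by
  have hle := GenA.SectionalRankFour.card_le_of_squares hD.rank ⊥ Φ bot_le
    (by rw [normalizer_eq_top]; exact le_top) (fun d hd => by rw [mem_bot]; exact hT.exp d hd)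
  rw [card_bot, mul_one] at hle
  haveI : Fact (Nat.Prime 2) := ⟨Nat.prime_two⟩
  obtain ⟨j, hj⟩ := (hD.pgroup.to_le hT.le).exists_card_eq
  rw [hj] at hle ⊢
  exact (show (2 : ℕ) ^ j ∣ 2 ^ 4 from pow_dvd_pow 2 ((Nat.pow_le_pow_iff_right (by norm_num)).1 hle))

/-- An invariant subgroup between the two layers. -/
theorem eq_or_eq {K : Subgroup X} (h1 : Φ ≤ K) (h2 : K ≤ P) (hK : ∀ p ∈ K, y * p * y⁻¹ ∈ K) :
    K = Φ ∨ K = P := by
  haveI := hT.normal
  haveI : Fact (Nat.Prime 5) := ⟨by norm_num⟩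
  let q := QuotientGroup.mk' Φ
  set V := K.map q with hV
  have hmod := card_modEq (q := 5) (g := q y) (by rw [← map_pow, hD.y5, map_one]) V (by
    rintro _ ⟨p, hp, rfl⟩
    exact ⟨_, hK p hp, by simp⟩)
  have hfix : V ⊓ centralizer {q y} = ⊥ := by
    rw [eq_bot_iff]
    rintro _ ⟨⟨p, hp, rfl⟩, hc⟩
    rw [mem_bot]
    refine (QuotientGroup.eq_one_iff p).2 (hT.yV p (h2 hp) ((QuotientGroup.eq_one_iff _).1 ?_))
    show q ⁅y, p⁆ = 1
    rw [map_commutatorElement, commutatorElement_eq_one_iff_mul_comm]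
    exact (mem_centralizer_singleton_iff.1 hc).symm
  rw [hfix, card_bot] at hmod
  have hVc : ∀ L : Subgroup X, Φ ≤ L → Nat.card L = Nat.card (L.map q) * Nat.card Φ := fun L hL => by
    have h := Subgroup.relIndex_ker L q
    rw [QuotientGroup.ker_mk'] at h
    rw [← h, Subgroup.relIndex, ← Nat.card_congr (subgroupOfEquivOfLe hL).toEquiv, mul_comm,
      card_mul_index]
  have hP16 : Nat.card (P.map q) = 16 := by
    have := hVc P hT.le
    rw [hT.card] at this
    exact (Nat.eq_of_mul_eq_mul_right Nat.card_pos this).symm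
  have hd : Nat.card V ∣ 16 := hP16 ▸ card_dvd_of_le (map_mono h2)
  by_cases hone : Nat.card V = 1
  · left
    refine (eq_of_le_of_card_ge h1 ?_).symm
    rw [hVc K h1, hone, one_mul]
  · right
    obtain ⟨h16, -⟩ := two_power_five hd (one_dvd _) (Ne.symm hone) hmod
    refine eq_of_le_of_card_ge h2 ?_
    rw [hVc K h1, hT.card, h16]

end Cfsg.Agent.GroupStructure3.RankFourA5
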