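import Cfsg.Agent.GroupStructure3.RankFourA5.Radical
import Cfsg.Agent.Lib.Coprime.Commutator
import Cfsg.Agent.Lib.Cores.Nilpotent
import Cfsg.Agent.Solvable.Basics

/-!
# The structure of the 2-group
-/

set_option autoImplicit false
set_option linter.all false

namespace Cfsg.Agent.GroupStructure3.RankFourA5

open Subgroup
open scoped commutatorElement

theorem frattini_eq_bot_of_exponent_two {A : Type*} [Group A] [Finite A] (h : ∀ a : A, a * a = 1) :
    frattini A = ⊥ := by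
  rw [eq_bot_iff]
  intro x hx
  rw [mem_bot]
  by_contra hx1
  obtain ⟨K, hK, hKmax⟩ := Set.Finite.exists_maximal (Set.toFinite {K : Subgroup A | x ∉ K})
    ⟨⊥, by simp [hx1]⟩
  have hinv : ∀ a : A, a⁻¹ = a := fun a => inv_eq_of_mul_eq_one_right (h a)
  have hcomm : ∀ a b : A, a * b = b * a := fun a b => by
    rw [← hinv (a * b), mul_inv_rev, hinv, hinv]
  have hco : IsCoatom K := by
    refine ⟨fun hKt => hK (hKt ▸ mem_top x), fun L hL => ?_⟩
    have hxL : x ∈ L := by
      by_contra hxL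
      exact hL.not_ge (hKmax hxL hL.le)
    rw [eq_top_iff]
    intro g _
    by_cases hg : g ∈ K
    · exact hL.le hg
    · let Kg : Subgroup A :=
        { carrier := {a | a ∈ K ∨ a * g ∈ K}
          one_mem' := Or.inl (one_mem K)
          mul_mem' := fun {a b} ha hb => by
            rcases ha with ha | ha <;> rcases hb with hb | hb
            · exact Or.inl (mul_mem ha hb)
            · exact Or.inr (by rw [mul_assoc]; exact mul_mem ha hb)
            · exact Or.inr (by rw [mul_assoc, hcomm b g, ← mul_assoc]; exact mul_mem ha hb)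
            · refine Or.inl ?_
              have := mul_mem ha hb
              rwa [mul_assoc, ← mul_assoc g, hcomm g b, mul_assoc b, h g, mul_one] at this
          inv_mem' := fun {a} ha => by rw [hinv]; exact ha }
      have hgKg : g ∈ Kg := Or.inr (by rw [h g]; exact one_mem K)
      have hxKg : x ∈ Kg := by
        by_contra hxKg
        exact hg (hKmax hxKg (fun a ha => Or.inl ha) hgKg)
      rcases hxKg with hxKg | hxKg
      · exact absurd hxKg hK
      · have : x * (x * g) ∈ L := mul_mem hxL (hL.le hxKg)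
        rwa [← mul_assoc, h x, one_mul] at this
  exact hK (frattini_le_coatom hco hx)

variable {X : Type*} [Group X] [Finite X]

/-- The Frattini subgroup of a 2-subgroup is generated by squares. -/
theorem frattini_le_squares {P : Subgroup X} :
    (frattini P).map P.subtype ≤ closure {x | ∃ p ∈ P, x = p * p} := by
  set S := closure {x | ∃ p ∈ P, x = p * p} with hS
  haveI hn : (S.subgroupOf P).Normal := by
    refine ⟨fun n hn p => ?_⟩
    rw [mem_subgroupOf] at hn ⊢
    rw [coe_mul, coe_mul, coe_inv]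
    have hle : S ≤ S.comap (MulAut.conj (p : X)).toMonoidHom := (closure_le _).2 (by
      rintro _ ⟨r, hr, rfl⟩
      refine subset_closure ⟨(p : X) * r * (p : X)⁻¹, mul_mem (mul_mem p.2 hr) (inv_mem p.2), ?_⟩
      show (p : X) * (r * r) * (p : X)⁻¹ = _
      group)
    exact hle hn
  rintro _ ⟨p, hp, rfl⟩
  have h0 : frattini (↥P ⧸ S.subgroupOf P) = ⊥ := frattini_eq_bot_of_exponent_two fun a => by
    obtain ⟨r, rfl⟩ := QuotientGroup.mk'_surjective _ a
    rw [← map_mul]
    exact (QuotientGroup.eq_one_iff _).2 (subset_closure ⟨r, r.2, rfl⟩)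
  have := frattini_le_comap_frattini_of_surjective (QuotientGroup.mk'_surjective (S.subgroupOf P)) hp
  rw [mem_comap, h0, mem_bot] at this
  exact (QuotientGroup.eq_one_iff p).1 this

/-- A maximal invariant subgroup below `L` gives a central elementary layer. -/
theorem exists_layer {P L : Subgroup X} [P.Normal] [L.Normal] (hP : IsPGroup 2 P) (hLP : L ≤ P) (hL : L ≠ ⊥) :
    ∃ N : Subgroup X, N.Normal ∧ N < L ∧ (∀ p ∈ P, ∀ l ∈ L, ⁅p, l⁆ ∈ N) ∧ ∀ l ∈ L, l * l ∈ N := by
  haveI : Fact (Nat.Prime 2) := ⟨Nat.prime_two⟩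
  obtain ⟨N, ⟨hNn, hNL⟩, hmax⟩ := Set.Finite.exists_maximal
    (Set.toFinite {N : Subgroup X | N.Normal ∧ N < L}) ⟨⊥, inferInstance, bot_lt_iff_ne_bot.2 hL⟩
  haveI := hNn
  have heq : ∀ K : Subgroup X, K.Normal → N < K → K ≤ L → K = L := fun K hK hNK hKL => by
    by_contra hne
    exact hNK.not_ge (hmax ⟨hK, lt_of_le_of_ne hKL hne⟩ hNK.le)
  let q := QuotientGroup.mk' N
  set Pb := P.map q with hPb
  set Lb := L.map q with hLb
  haveI : Lb.Normal := ‹L.Normal›.map q (QuotientGroup.mk'_surjective N)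
  haveI : Pb.Normal := ‹P.Normal›.map q (QuotientGroup.mk'_surjective N)
  have hLbP : Lb ≤ Pb := map_mono hLP
  have hPbp : IsPGroup 2 Pb := hP.map q
  haveI := hPbp.isNilpotent
  have hLb : Lb.subgroupOf Pb ≠ ⊥ := by
    intro h
    rw [subgroupOf_eq_bot, disjoint_iff, inf_eq_left.2 hLbP, Subgroup.map_eq_bot_iff, QuotientGroup.ker_mk'] at h
    exact hNL.not_ge h
  have hZ := Cores.inf_center_ne_bot hLb
  -- the part of `L` central in `P` modulo `N`
  set Z : Subgroup X := L ⊓ (centralizer (Pb : Set (X ⧸ N))).comap q with hZdef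
  haveI : (centralizer (Pb : Set (X ⧸ N))).Normal := inferInstance
  have hZn : Z.Normal := inferInstance
  have hNZ : N < Z := by
    refine lt_of_le_of_ne (fun n hn => ⟨hNL.le hn, by
      show q n ∈ centralizer (Pb : Set (X ⧸ N))
      rw [show q n = 1 from (QuotientGroup.eq_one_iff n).2 hn]; exact one_mem _⟩) ?_
    intro he
    refine hZ ?_
    rw [eq_bot_iff]
    rintro ⟨_, hmem⟩ ⟨⟨l, hl, hlw⟩, hc⟩
    rw [mem_bot]
    apply Subtype.ext
    show _ = (1 : X ⧸ N)
    dsimp at hlw ⊢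
    subst hlw
    refine (QuotientGroup.eq_one_iff l).2 ?_
    rw [he]
    refine ⟨hl, mem_centralizer_iff.2 fun x hx => ?_⟩
    exact congrArg Subtype.val (mem_center_iff.1 hc ⟨x, hx⟩)
  have hZL : Z = L := heq Z hZn hNZ inf_le_left
  have hcent : ∀ p ∈ P, ∀ l ∈ L, ⁅p, l⁆ ∈ N := by
    intro p hp l hl
    have h := mem_centralizer_iff.1 (hZL.symm ▸ hl : l ∈ Z).2 (q p) ⟨p, hp, rfl⟩
    refine (QuotientGroup.eq_one_iff _).1 ?_
    show q ⁅p, l⁆ = 1
    rw [map_commutatorElement, commutatorElement_eq_one_iff_mul_comm]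
    exact h
  have hlin : ∀ a ∈ L, ∀ b ∈ L, q (a * b) * q (a * b) = (q a * q a) * (q b * q b) := by
    intro a ha b hb
    have h : q a * q b = q b * q a := by
      rw [← commutatorElement_eq_one_iff_mul_comm, ← map_commutatorElement]
      exact (QuotientGroup.eq_one_iff _).2 (hcent a (hLP ha) b hb)
    rw [map_mul]
    exact (show Commute (q a) (q b) from h).symm.mul_mul_mul_comm _ _
  let K : Subgroup X :=
    { carrier := {l | l ∈ L ∧ q l * q l = 1}
      one_mem' := ⟨one_mem L, by simp⟩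
      mul_mem' := fun {a b} ha hb => ⟨mul_mem ha.1 hb.1, by rw [hlin a ha.1 b hb.1, ha.2, hb.2, one_mul]⟩
      inv_mem' := fun {a} ha => ⟨inv_mem ha.1, by rw [map_inv, ← mul_inv_rev, ha.2, inv_one]⟩ }
  have hKn : K.Normal := ⟨fun a ha g => ⟨‹L.Normal›.conj_mem a ha.1 g, by
    rw [map_mul, map_mul, map_inv, conj_mul, ha.2, mul_one, mul_inv_cancel]⟩⟩
  have hNK : N < K := by
    refine lt_of_le_of_ne (fun n hn => ⟨hNL.le hn, by
      rw [show q n = 1 from (QuotientGroup.eq_one_iff n).2 hn, one_mul]⟩) ?_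
    intro he
    haveI : Nontrivial Lb := by
      rw [Subgroup.nontrivial_iff_ne_bot]
      intro h
      rw [Subgroup.map_eq_bot_iff, QuotientGroup.ker_mk'] at h
      exact hNL.not_ge h
    obtain ⟨j, hj, hjc⟩ := ((hP.map q).to_le hLbP).nontrivial_iff_card.1 inferInstance
    obtain ⟨⟨_, l, hl, rfl⟩, hv⟩ := exists_prime_orderOf_dvd_card' (G := Lb) 2 (hjc ▸ dvd_pow_self 2 hj.ne')
    have hv' : q l * q l = 1 := by
      have := pow_orderOf_eq_one (⟨q l, ⟨l, hl, rfl⟩⟩ : Lb)
      rw [hv, pow_two] at this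
      exact congrArg Subtype.val this
    have hlN : l ∈ N := he.symm ▸ (⟨hl, hv'⟩ : l ∈ K)
    have : (⟨q l, ⟨l, hl, rfl⟩⟩ : Lb) = 1 := Subtype.ext ((QuotientGroup.eq_one_iff l).2 hlN)
    rw [this, orderOf_one] at hv
    norm_num at hv
  have hKL : K = L := heq K hKn hNK (fun l hl => hl.1)
  refine ⟨N, hNn, hNL, hcent, fun l hl => ?_⟩
  have h := (hKL.symm ▸ hl : l ∈ K).2
  rw [← map_mul] at h
  exact (QuotientGroup.eq_one_iff _).1 h

/-- The image of the elements in a quotient inside `P`. -/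
theorem Data.quotient {P : Subgroup X} {y z e : X} (hD : Data P y z e) (N : Subgroup X) [N.Normal]
    (hN : N ≤ P) :
    Data (P.map (QuotientGroup.mk' N)) (QuotientGroup.mk' N y) (QuotientGroup.mk' N z)
      (QuotientGroup.mk' N e) := by
  haveI := hD.normal
  let q := QuotientGroup.mk' N
  have hcomap : (P.map q).comap q = P := by
    rw [comap_map_eq, QuotientGroup.ker_mk', sup_eq_left.2 hN]
  refine ⟨hD.pgroup.map q, hD.normal.map q (QuotientGroup.mk'_surjective N), ?_, ?_, ?_, ?_, ?_, ?_, ?_⟩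
  · intro K R hR A hA hexp
    let g : ↥(K.comap q) →* ↥K ⧸ R := (QuotientGroup.mk' R).comp (q.subgroupComap K)
    have hg : Function.Surjective g := (QuotientGroup.mk'_surjective R).comp fun ⟨v, hv⟩ => by
      obtain ⟨x, rfl⟩ := QuotientGroup.mk'_surjective N v; exact ⟨⟨x, hv⟩, rfl⟩
    let i : ↥(K.comap q) ⧸ g.ker ≃* ↥K ⧸ R := QuotientGroup.quotientKerEquivOfSurjective g hg
    haveI := hA
    have hA' : IsMulCommutative ↥(A.map i.symm.toMonoidHom) :=
      ⟨⟨fun ⟨a, a', ha', hae⟩ ⟨b, b', hb', hbe⟩ => Subtype.ext (by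
        show a * b = b * a
        rw [← hae, ← hbe, ← map_mul, ← map_mul]
        exact congrArg _ (congrArg Subtype.val (IsMulCommutative.is_comm.comm (⟨a', ha'⟩ : A) ⟨b', hb'⟩)))⟩⟩
    have := hD.rank (K.comap q) g.ker _ hA' (by
      rintro _ ⟨a, ha, rfl⟩; rw [← map_pow, hexp a ha, map_one])
    rwa [card_map_of_injective (f := i.symm.toMonoidHom) i.symm.injective] at this
  · rw [← map_pow, hD.y5, map_one]
  · rw [← map_pow, hD.z3, map_one]
  · intro h; exact hD.eP (hcomap ▸ h)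
  · rw [← map_mul]; exact ⟨_, hD.e2, rfl⟩
  · rw [← map_inv, ← map_mul, ← map_mul, hD.inv, map_inv]
  · intro L M hL hM hML hLP hcent hy l hl
    obtain ⟨l, rfl⟩ := QuotientGroup.mk'_surjective N l
    rw [← map_commutatorElement]
    refine hD.triv (L.comap q) (M.comap q) (hL.comap q) (hM.comap q) (comap_mono hML)
      (hcomap ▸ comap_mono hLP) (fun p hp a ha => ?_) (fun a ha => ?_) l hl
    · show q ⁅p, a⁆ ∈ M
      rw [map_commutatorElement]; exact hcent _ ⟨p, hp, rfl⟩ _ ha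
    · show q ⁅y, a⁆ ∈ M
      rw [map_commutatorElement]; exact hy _ ha

/-- Conditions on the top layer `F`. -/
structure Top (P F : Subgroup X) (y z : X) : Prop where
  normal : F.Normal
  le : F ≤ P
  comm : ∀ p ∈ P, ∀ q ∈ P, ⁅p, q⁆ ∈ F
  sq : ∀ p ∈ P, p * p ∈ F
  gen : F ≤ closure {x | ∃ p ∈ P, x = p * p}
  card : Nat.card P = 16 * Nat.card F
  yV : ∀ p ∈ P, ⁅y, p⁆ ∈ F → p ∈ F
  zV : ∃ p ∈ P, ⁅z, p⁆ ∉ F

theorem Top.two {P F : Subgroup X} {y z : X} (h : Top P F y z) (N : Subgroup X) [N.Normal] (hN : N ≤ F)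
    (hc : ∀ p ∈ P, ∀ l ∈ F, ⁅p, l⁆ ∈ N) (hs : ∀ l ∈ F, l * l ∈ N) :
    Two (P.map (QuotientGroup.mk' N)) (F.map (QuotientGroup.mk' N)) (QuotientGroup.mk' N y)
      (QuotientGroup.mk' N z) := by
  let q := QuotientGroup.mk' N
  have hcomap : (F.map q).comap q = F := by
    rw [comap_map_eq, QuotientGroup.ker_mk', sup_eq_left.2 hN]
  have hcard : ∀ L : Subgroup X, N ≤ L → Nat.card L = Nat.card N * Nat.card (L.map q) := fun L hL => by
    have hr := Subgroup.relIndex_ker L q
    rw [QuotientGroup.ker_mk'] at hr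
    rw [← hr, Subgroup.relIndex, ← Nat.card_congr (subgroupOfEquivOfLe hL).toEquiv, card_mul_index]
  refine ⟨h.normal.map q (QuotientGroup.mk'_surjective N), map_mono h.le, ?_, ?_, ?_, ?_, ?_, ?_, ?_, ?_⟩
  · rintro _ ⟨a, ha, rfl⟩ _ ⟨b, hb, rfl⟩
    exact ⟨_, h.comm a ha b hb, map_commutatorElement _ _ _⟩
  · rintro _ ⟨a, ha, rfl⟩
    exact ⟨_, h.sq a ha, map_mul _ _ _⟩
  · rintro _ ⟨a, ha, rfl⟩ _ ⟨b, hb, rfl⟩
    rw [← commutatorElement_eq_one_iff_mul_comm, ← map_commutatorElement]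
    exact (QuotientGroup.eq_one_iff _).2 (hc a ha b hb)
  · rintro _ ⟨a, ha, rfl⟩
    rw [← map_mul]; exact (QuotientGroup.eq_one_iff _).2 (hs a ha)
  · refine (map_mono h.gen).trans ?_
    rw [MonoidHom.map_closure]
    refine closure_mono ?_
    rintro _ ⟨_, ⟨p, hp, rfl⟩, rfl⟩
    exact ⟨q p, ⟨p, hp, rfl⟩, map_mul _ _ _⟩
  · have hc' := h.card
    rw [hcard P (hN.trans h.le), hcard F hN, mul_left_comm] at hc'
    exact Nat.eq_of_mul_eq_mul_left Nat.card_pos hc'
  · rintro _ ⟨p, hp, rfl⟩ hy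
    rw [← map_commutatorElement] at hy
    exact ⟨p, h.yV p hp (hcomap ▸ hy), rfl⟩
  · obtain ⟨p, hp, hpz⟩ := h.zV
    refine ⟨q p, ⟨p, hp, rfl⟩, fun hz => hpz ?_⟩
    rw [← map_commutatorElement] at hz
    exact hcomap ▸ hz

/-- The Frattini layer has order at most two. -/
theorem top_card {P F : Subgroup X} {y z e : X} (hD : Data P y z e) (hT : Top P F y z) (hne : F ≠ ⊥) :
    Nat.card F = 2 ∧ Two P F y z := by
  haveI := hD.normal
  haveI := hT.normal
  obtain ⟨N, hNn, hNF, hc, hs⟩ := exists_layer hD.pgroup hT.le hne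
  haveI := hNn
  let q := QuotientGroup.mk' N
  have hD1 := hD.quotient N (hNF.le.trans hT.le)
  have hT1 := hT.two N hNF.le hc hs
  haveI : (F.map q).Normal := hT1.normal
  have hne1 : F.map q ≠ ⊥ := fun h => by
    rw [Subgroup.map_eq_bot_iff, QuotientGroup.ker_mk'] at h
    exact hNF.not_ge h
  have h2 := card_two hD1 hT1 hne1
  by_cases hN1 : N = ⊥
  · subst hN1
    have hcard : Nat.card (F.map q) = Nat.card F := by
      refine card_map_of_injective ((MonoidHom.ker_eq_bot_iff _).1 ?_)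
      rw [QuotientGroup.ker_mk']
    refine ⟨hcard ▸ h2, hT.normal, hT.le, hT.comm, hT.sq, fun p hp f hf => ?_, fun f hf => ?_, hT.gen,
      hT.card, hT.yV, hT.zV⟩
    · rw [← commutatorElement_eq_one_iff_mul_comm]; exact mem_bot.1 (hc p hp f hf)
    · exact mem_bot.1 (hs f hf)
  exfalso
  obtain ⟨N2, hN2n, hN2N, hc2, hs2⟩ := exists_layer hD.pgroup (hNF.le.trans hT.le) hN1
  haveI := hN2n
  -- the radical modulo `N`
  haveI : (((⊥ : Subgroup (X ⧸ N))).subgroupOf (P.map q)).Normal := by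
    rw [bot_subgroupOf]; infer_instance
  obtain ⟨-, w, hgood, -, -⟩ := five hD1 hT1 ⊥ bot_le (by rw [card_bot, mul_one, h2])
  have hrad : ∀ p ∈ P, (∀ r ∈ P, ⁅r, p⁆ ∈ N) → p ∈ F := by
    intro p hp hall
    let π := QuotientGroup.mk' ((⊥ : Subgroup (X ⧸ N)).subgroupOf (P.map q))
    have hzc : π ⟨q p, ⟨p, hp, rfl⟩⟩ ∈ center _ := mem_center_iff.2 fun x => by
      obtain ⟨⟨_, r, hr, rfl⟩, rfl⟩ := QuotientGroup.mk'_surjective _ x
      rw [← map_mul π, ← map_mul π]
      congr 1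
      apply Subtype.ext
      show q r * q p = q p * q r
      rw [← commutatorElement_eq_one_iff_mul_comm, ← map_commutatorElement]
      exact (QuotientGroup.eq_one_iff _).2 (hall r hr)
    by_contra hpF
    rcases (hgood.center _).1 hzc with h | h
    · have : q p = 1 := mem_bot.1 (mem_subgroupOf.1 ((QuotientGroup.eq_one_iff _).1 h))
      exact hpF (hNF.le ((QuotientGroup.eq_one_iff p).1 this))
    · -- `w` lies in the image of `F`
      obtain ⟨f, hf, hfne⟩ : ∃ f ∈ F, f ∉ N := by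
        by_contra hcon; push Not at hcon; exact hNF.not_ge hcon
      have hfc : π ⟨q f, ⟨f, hT.le hf, rfl⟩⟩ ∈ center _ := mem_center_iff.2 fun x => by
        obtain ⟨⟨_, r, hr, rfl⟩, rfl⟩ := QuotientGroup.mk'_surjective _ x
        rw [← map_mul π, ← map_mul π]
        congr 1
        apply Subtype.ext
        show q r * q f = q f * q r
        rw [← commutatorElement_eq_one_iff_mul_comm, ← map_commutatorElement]
        exact (QuotientGroup.eq_one_iff _).2 (hc r hr f hf)
      have hfw : π ⟨q f, ⟨f, hT.le hf, rfl⟩⟩ = w := ((hgood.center _).1 hfc).resolve_left fun h1 => hfne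
        ((QuotientGroup.eq_one_iff f).1 (mem_bot.1 (mem_subgroupOf.1 ((QuotientGroup.eq_one_iff _).1 h1))))
      rw [← hfw, QuotientGroup.mk'_eq_mk'] at h
      obtain ⟨⟨m, hm⟩, hmb, hpm⟩ := h
      rw [mem_subgroupOf, mem_bot] at hmb
      have e1 : q p = q f := by
        have := congrArg Subtype.val hpm
        simp only [coe_mul] at this
        rwa [show m = 1 from hmb, mul_one] at this
      refine hpF ?_
      have := QuotientGroup.eq.1 e1.symm
      simpa using mul_mem hf (hNF.le this)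
  -- `F / N` has order two
  have hFN : ∀ a ∈ F, ∀ b ∈ F, a ∉ N → b ∉ N → a * b ∈ N := by
    intro a ha b hb haN hbN
    have hsub : ({1, q a, q b} : Set (X ⧸ N)) ⊆ (F.map q : Set (X ⧸ N)) := by
      simp only [Set.insert_subset_iff, Set.singleton_subset_iff]
      exact ⟨one_mem _, ⟨a, ha, rfl⟩, ⟨b, hb, rfl⟩⟩
    have hab : q a = q b := by
      by_contra hne'
      have := Set.ncard_le_ncard hsub (Set.toFinite _)
      rw [Set.ncard_eq_three.2 ⟨1, q a, q b, fun h => haN ((QuotientGroup.eq_one_iff a).1 h.symm),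
        fun h => hbN ((QuotientGroup.eq_one_iff b).1 h.symm), hne', rfl⟩, ← Nat.card_coe_set_eq,
        SetLike.coe_sort_coe, h2] at this
      omega
    refine (QuotientGroup.eq_one_iff _).1 ?_
    show q (a * b) = 1
    rw [map_mul, ← hab, ← map_mul]
    exact (QuotientGroup.eq_one_iff _).2 (hs a ha)
  let q2 := QuotientGroup.mk' N2
  have hcN : ∀ p ∈ P, ∀ n ∈ N, q2 p * q2 n = q2 n * q2 p := fun p hp n hn => by
    rw [← commutatorElement_eq_one_iff_mul_comm, ← map_commutatorElement]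
    exact (QuotientGroup.eq_one_iff _).2 (hc2 p hp n hn)
  -- the commutator form
  have hhom : ∀ x ∈ P, ∀ a ∈ P, ∀ b ∈ P, ⁅x, a⁆ ∈ N → (⁅x, a * b⁆ ∈ N ↔ ⁅x, b⁆ ∈ N) := by
    intro x hx a ha b hb ha'
    have e1 : ⁅x, a * b⁆ = ⁅x, a⁆ * (a * ⁅x, b⁆ * a⁻¹) := by simp only [commutatorElement_def]; group
    rw [e1, mul_mem_cancel_left ha']
    exact ⟨fun h => by simpa [mul_assoc] using hNn.conj_mem _ h a⁻¹, fun h => hNn.conj_mem _ h a⟩
  have hprod : ∀ x ∈ P, ∀ a ∈ P, ∀ b ∈ P, ⁅x, a⁆ ∉ N → ⁅x, b⁆ ∉ N → ⁅x, a * b⁆ ∈ N := by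
    intro x hx a ha b hb h1 h2'
    have e1 : ⁅x, a * b⁆ = ⁅x, a⁆ * ((a * ⁅x, b⁆ * a⁻¹)) := by simp only [commutatorElement_def]; group
    rw [e1]
    exact hFN _ (hT.comm x hx a ha) _ (hT.normal.conj_mem _ (hT.comm x hx b hb) a) h1
      (fun h => h2' (by simpa [mul_assoc] using hNn.conj_mem _ h a⁻¹))
  let S : ∀ x, x ∈ P → Subgroup X := fun x hx =>
    { carrier := {p | p ∈ P ∧ ⁅x, p⁆ ∈ N}
      one_mem' := ⟨one_mem P, by simp [one_mem]⟩
      mul_mem' := fun {a b} ha hb => ⟨mul_mem ha.1 hb.1, (hhom x hx a ha.1 b hb.1 ha.2).2 hb.2⟩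
      inv_mem' := fun {a} ha => ⟨inv_mem ha.1, by
        have := (hhom x hx a ha.1 a⁻¹ (inv_mem ha.1) ha.2).1 (by simp [one_mem])
        exact this⟩ }
  have hFS : ∀ x (hx : x ∈ P), F ≤ S x hx := fun x hx g hg => ⟨hT.le hg, hc x hx g hg⟩
  have hS2 : ∀ x (hx : x ∈ P), Nat.card P ≤ 2 * Nat.card (S x hx) := by
    intro x hx
    by_cases hall : ∀ p ∈ P, p ∈ S x hx
    · have := Subgroup.card_le_of_le (show P ≤ S x hx from hall)
      omega
    · push Not at hall
      obtain ⟨t, ht, htS⟩ := hall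
      have hsub : (P : Set X) ⊆ (S x hx : Set X) ∪ (fun s => s * t⁻¹) '' (S x hx : Set X) := by
        intro p hp
        by_cases hpS : p ∈ S x hx
        · exact Or.inl hpS
        · exact Or.inr ⟨p * t, ⟨mul_mem hp ht, hprod x hx p hp t ht (fun h => hpS ⟨hp, h⟩)
            (fun h => htS ⟨ht, h⟩)⟩, mul_inv_cancel_right p t⟩
      have := (Set.ncard_le_ncard hsub (Set.toFinite _)).trans (Set.ncard_union_le _ _)
      rw [Set.ncard_image_of_injective _ (mul_left_injective _), ← Nat.card_coe_set_eq, ← Nat.card_coe_set_eq] at this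
      change Nat.card P ≤ Nat.card (S x hx) + Nat.card (S x hx) at this
      omega
  have hsymm : ∀ a b : X, ⁅a, b⁆ ∈ N → ⁅b, a⁆ ∈ N := fun a b h => by
    rw [← commutatorElement_inv]; exact inv_mem h
  have hpair : ∀ x ∈ P, ∃ a ∈ P, ∃ c ∈ P, ⁅x, a⁆ ∈ N ∧ ⁅x, c⁆ ∈ N ∧ ⁅a, c⁆ ∉ N := by
    intro x hx
    by_contra hcon
    push Not at hcon
    have hFc : Nat.card P = 16 * Nat.card F := hT.card
    by_cases hall : ∀ p ∈ P, p ∈ S x hx
    · have : ∀ a ∈ P, a ∈ F := fun a ha => hrad a ha fun r hr =>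
        hcon r hr a ha (hall r hr).2 (hall a ha).2
      have := Subgroup.card_le_of_le (show P ≤ F from this)
      have := Nat.card_pos (α := F)
      omega
    · push Not at hall
      obtain ⟨t, ht, htS⟩ := hall
      have hle : S x hx ⊓ S t ht ≤ F := by
        rintro p ⟨⟨hp, hxp⟩, -, htp⟩
        refine hrad p hp fun r hr => ?_
        by_cases hrS : ⁅x, r⁆ ∈ N
        · exact hcon r hr p hp hrS hxp
        · have hrt : ⁅x, r * t⁆ ∈ N := hprod x hx r hr t ht hrS (fun h => htS ⟨ht, h⟩)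
          have h1 := hcon (r * t) (mul_mem hr ht) p hp hrt hxp
          have h2 : ⁅p, r * t⁆ ∈ N := hsymm _ _ h1
          refine hsymm _ _ ?_
          by_contra hpr
          have e1 : ⁅p, r * t⁆ = ⁅p, r⁆ * (r * ⁅p, t⁆ * r⁻¹) := by simp only [commutatorElement_def]; group
          have h3 : r * ⁅p, t⁆ * r⁻¹ ∈ N := hNn.conj_mem _ (hsymm _ _ htp) r
          rw [e1, mul_mem_cancel_right h3] at h2
          exact hpr h2
      have h1 := hS2 x hx
      have h2' := hS2 t ht
      have hr := relIndex_inf_le (H := S x hx) (K := S t ht) (L := P)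
      have hmul : ∀ K : Subgroup X, K ≤ P → Nat.card K * K.relIndex P = Nat.card P := fun K hK => by
        rw [← Nat.card_congr (subgroupOfEquivOfLe hK).toEquiv]
        exact (K.subgroupOf P).card_mul_index
      have e1 := hmul (S x hx) (fun p hp => hp.1)
      have e2 := hmul (S t ht) (fun p hp => hp.1)
      have e3 := hmul (S x hx ⊓ S t ht) (fun p hp => hp.1.1)
      have hpos := Nat.card_pos (α := S x hx)
      have hpos2 := Nat.card_pos (α := S t ht)
      have r1 : (S x hx).relIndex P ≤ 2 := by nlinarith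
      have r2 : (S t ht).relIndex P ≤ 2 := by nlinarith
      have r3 : (S x hx ⊓ S t ht).relIndex P ≤ 4 := hr.trans (by nlinarith)
      have := Subgroup.card_le_of_le hle
      have := Nat.card_pos (α := F)
      nlinarith
  -- `F` is central modulo `N2`
  have hgenF : ∀ a ∈ P, ∀ c ∈ P, ⁅a, c⁆ ∉ N → ∀ f ∈ F, f ∈ N ∨ ∃ n ∈ N, f = n * ⁅a, c⁆ := by
    intro a ha c hc' hac f hf
    by_cases hfN : f ∈ N
    · exact Or.inl hfN
    · refine Or.inr ⟨f * ⁅a, c⁆⁻¹, ?_, by rw [inv_mul_cancel_right]⟩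
      exact hFN f hf _ (inv_mem (hT.comm a ha c hc')) hfN (fun h => hac (inv_mem_iff.1 h))
  have hcF : ∀ p ∈ P, ∀ f ∈ F, ⁅p, f⁆ ∈ N2 := by
    intro x hx f hf
    refine (QuotientGroup.eq_one_iff _).1 ?_
    show q2 ⁅x, f⁆ = 1
    rw [map_commutatorElement, commutatorElement_eq_one_iff_mul_comm]
    obtain ⟨a, ha, c, hc', hxa, hxc, hac⟩ := hpair x hx
    rcases hgenF a ha c hc' hac f hf with hfN | ⟨n, hn, rfl⟩
    · exact hcN x hx f hfN
    · have e1 : q2 x * q2 ⁅a, c⁆ = q2 ⁅a, c⁆ * q2 x := by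
        have e2 : x * ⁅a, c⁆ * x⁻¹ = ⁅⁅x, a⁆ * a, ⁅x, c⁆ * c⁆ := by
          simp only [commutatorElement_def]; group
        have c1 : ∀ u ∈ P, Commute (q2 ⁅x, a⁆) (q2 u) := fun u hu => (hcN u hu _ hxa).symm
        have c2 : ∀ u ∈ P, Commute (q2 ⁅x, c⁆) (q2 u) := fun u hu => (hcN u hu _ hxc).symm
        have hn1P : ⁅x, a⁆ ∈ P := hT.le (hNF.le hxa)
        have e3 : q2 ⁅⁅x, a⁆ * a, ⁅x, c⁆ * c⁆ = q2 ⁅a, c⁆ := by
          rw [map_commutatorElement, map_commutatorElement, map_mul, map_mul]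
          set A := q2 a; set C := q2 c; set s := q2 ⁅x, a⁆; set t := q2 ⁅x, c⁆
          have sA : Commute s A := c1 a ha
          have sC : Commute s C := c1 c hc'
          have tA : Commute t A := c2 a ha
          have tC : Commute t C := c2 c hc'
          have st : Commute s t := (c2 _ hn1P).symm
          rw [commutatorElement_def, commutatorElement_def]
          calc s * A * (t * C) * (s * A)⁻¹ * (t * C)⁻¹
              = (s * t) * (A * C) * (A⁻¹ * s⁻¹) * (C⁻¹ * t⁻¹) := by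
                rw [mul_inv_rev, mul_inv_rev, ← mul_assoc (s * A) t, mul_assoc s A t, ← tA.eq]; group
            _ = (s * t) * (A * C * A⁻¹ * C⁻¹) * (s⁻¹ * t⁻¹) := by
                have := (sC.inv_inv).eq
                calc (s * t) * (A * C) * (A⁻¹ * s⁻¹) * (C⁻¹ * t⁻¹)
                    = (s * t) * (A * C) * A⁻¹ * (s⁻¹ * C⁻¹) * t⁻¹ := by group
                  _ = _ := by rw [this]; group
            _ = A * C * A⁻¹ * C⁻¹ := by
                have hk : Commute (s * t) (A * C * A⁻¹ * C⁻¹) := by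
                  refine Commute.mul_left ?_ ?_
                  · exact ((sA.mul_right sC).mul_right sA.inv_right).mul_right sC.inv_right
                  · exact ((tA.mul_right tC).mul_right tA.inv_right).mul_right tC.inv_right
                rw [hk.eq, st.eq]; group
        have e4 : q2 (x * ⁅a, c⁆ * x⁻¹) = q2 ⁅a, c⁆ := by rw [e2, e3]
        rw [map_mul, map_mul, map_inv] at e4
        exact mul_inv_eq_iff_eq_mul.1 e4
      rw [map_mul, ← mul_assoc, hcN x hx n hn, mul_assoc, e1, mul_assoc]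
  have hsF : ∀ f ∈ F, f * f ∈ N2 := by
    intro f hf
    refine (QuotientGroup.eq_one_iff _).1 ?_
    show q2 (f * f) = 1
    have hN2' : ∀ n ∈ N, q2 n * q2 n = 1 := fun n hn => by
      rw [← map_mul]; exact (QuotientGroup.eq_one_iff _).2 (hs2 n hn)
    obtain ⟨a, ha, c, hc', -, -, hac⟩ := hpair 1 (one_mem P)
    have hkey : q2 ⁅a, c⁆ * q2 ⁅a, c⁆ = 1 := by
      have h0 : q2 ⁅a * a, c⁆ = 1 := by
        rw [map_commutatorElement, commutatorElement_eq_one_iff_mul_comm]
        have h := (QuotientGroup.eq_one_iff _).2 (hcF c hc' _ (hT.sq a ha))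
        change q2 ⁅c, a * a⁆ = 1 at h
        rw [map_commutatorElement, commutatorElement_eq_one_iff_mul_comm] at h
        exact h.symm
      have h1 : ⁅a * a, c⁆ = a * ⁅a, c⁆ * a⁻¹ * ⁅a, c⁆ := by simp only [commutatorElement_def]; group
      have h2 : q2 a * q2 ⁅a, c⁆ = q2 ⁅a, c⁆ * q2 a := by
        have h := (QuotientGroup.eq_one_iff _).2 (hcF a ha _ (hT.comm a ha c hc'))
        change q2 ⁅a, ⁅a, c⁆⁆ = 1 at h
        rwa [map_commutatorElement, commutatorElement_eq_one_iff_mul_comm] at h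
      rw [h1, map_mul, map_mul, map_mul, map_inv, h2, mul_inv_cancel_right] at h0
      exact h0
    rcases hgenF a ha c hc' hac f hf with hfN | ⟨n, hn, rfl⟩
    · rw [map_mul]; exact hN2' f hfN
    · have hnc : q2 ⁅a, c⁆ * q2 n = q2 n * q2 ⁅a, c⁆ := hcN _ (hT.le (hT.comm a ha c hc')) n hn
      rw [map_mul, map_mul]
      calc q2 n * q2 ⁅a, c⁆ * (q2 n * q2 ⁅a, c⁆)
          = q2 n * (q2 ⁅a, c⁆ * q2 n) * q2 ⁅a, c⁆ := by group
        _ = (q2 n * q2 n) * (q2 ⁅a, c⁆ * q2 ⁅a, c⁆) := by rw [hnc]; group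
        _ = 1 := by rw [hN2' n hn, hkey, one_mul]
  have hN2F : N2 ≤ F := hN2N.le.trans hNF.le
  have hD2 := hD.quotient N2 (hN2F.trans hT.le)
  have hT2 := hT.two N2 hN2F hcF hsF
  haveI : (F.map q2).Normal := hT2.normal
  have h22 := card_two hD2 hT2 (fun h => by
    rw [Subgroup.map_eq_bot_iff, QuotientGroup.ker_mk'] at h
    exact (hN2N.trans hNF).not_ge h)
  -- but `N / N2` is a proper nontrivial subgroup of `F / N2`
  have hlt : Nat.card (N.map q2) < Nat.card (F.map q2) := by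
    by_contra hge
    push Not at hge
    have he := eq_of_le_of_card_ge (map_mono hNF.le) hge
    have := congrArg (Subgroup.comap q2) he
    rw [comap_map_eq, comap_map_eq, QuotientGroup.ker_mk', sup_eq_left.2 hN2N.le, sup_eq_left.2 hN2F] at this
    exact hNF.ne this
  have h1 : 1 < Nat.card (N.map q2) := by
    rw [one_lt_card_iff_ne_bot]
    intro h
    rw [Subgroup.map_eq_bot_iff, QuotientGroup.ker_mk'] at h
    exact hN2N.not_ge h
  rw [h22] at hlt
  omega

end Cfsg.Agent.GroupStructure3.RankFourA5
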